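import Cfsg.Agent.H272.NFUFour
import Cfsg.Agent.H901.FacNum

/-!
# S5773: the rows `PSU n F q`, `n ≥ 4` (helper272)
-/

set_option autoImplicit false
set_option linter.unusedSectionVars false

namespace Cfsg.Agent.H272.NFU

open Module Cfsg Cfsg.Agent.H518.Dghp Cfsg.Agent.H518.DghpMat Cfsg.Agent.H518.DghpPrim Cfsg.Agent.H176.NF
  Cfsg.Agent.H403.NumTop

/-! ### numbers -/

theorem mul_le_pow {p v : ℕ} (hp : 2 ≤ p) (hv : 1 ≤ v) : p * v ≤ p ^ v := by
  obtain ⟨k, rfl⟩ : ∃ k, v = k + 1 := ⟨v - 1, by omega⟩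
  rw [pow_succ, mul_comm]
  refine Nat.mul_le_mul_right p ?_
  have h1 : k < 2 ^ k := Nat.lt_two_pow_self
  have h2 : 2 ^ k ≤ p ^ k := Nat.pow_le_pow_left hp k
  omega

theorem mul_fac_le {p m : ℕ} (hp : p.Prime) (hm : m ≠ 0) : p * m.factorization p ≤ m := by
  rcases Nat.eq_zero_or_pos (m.factorization p) with h | h
  · rw [h, mul_zero]
    exact Nat.zero_le _
  · exact (mul_le_pow hp.two_le h).trans (Nat.le_of_dvd (Nat.pos_of_ne_zero hm) (Nat.ordProj_dvd m p))

theorem fac_two_mul {f : ℕ} (hf : 1 ≤ f) : (2 * f).factorization 2 = 1 + f.factorization 2 := by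
  rw [fac_mul (by norm_num) (by omega), Nat.Prime.factorization_self Nat.prime_two]

theorem fac_two_mul' {p f : ℕ} (hp : p.Prime) (h2 : p ≠ 2) (hf : 1 ≤ f) : (2 * f).factorization p = f.factorization p := by
  have : ¬ p ∣ 2 := fun h => h2 ((Nat.prime_dvd_prime_iff_eq hp Nat.prime_two).1 h)
  rw [fac_mul (by norm_num) (by omega), Nat.factorization_eq_zero_of_not_dvd this, zero_add]

theorem fac_gcd {p f q n : ℕ} (hp : p.Prime) (hf : 1 ≤ f) (hq : q = p ^ f) (hn : 1 ≤ n) :
    (Nat.gcd n (q + 1) * (2 * f)).factorization p = (2 * f).factorization p := by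
  have h1 : ¬ p ∣ Nat.gcd n (q + 1) := by
    intro h
    have h3 := h.trans (Nat.gcd_dvd_right _ _)
    have hpq : p ∣ q := hq ▸ dvd_pow_self p (by omega)
    exact hp.one_lt.ne' (Nat.dvd_one.1 ((Nat.dvd_add_right hpq).1 h3))
  rw [fac_mul (Nat.gcd_pos_of_pos_left _ (by omega)).ne' (by omega), Nat.factorization_eq_zero_of_not_dvd h1, zero_add]

/-- `n` odd or even, `n ≥ 7` -/
theorem ineq_big {n p f a b : ℕ} (hp : p.Prime) (hn : 7 ≤ n) (hf : 1 ≤ f) (ha : 1 ≤ a) (han : a ≤ n) (hb : 1 ≤ b)
    (hbn : b ≤ n - 2) (hao : Odd a) (hbo : Odd b) :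
    (two1 p + a.factorization p) + (2 * f * (n - 1) + two1 p + b.factorization p) + (2 * f).factorization p <
      f * (n * (n - 1) / 2) := by
  obtain ⟨m, rfl⟩ : ∃ m, n = m + 7 := ⟨n - 7, by omega⟩
  have h1 : (m + 7) * (m + 7 - 1) / 2 * 2 = (m + 7) * (m + 6) := by
    have : (m + 7) * (m + 7 - 1) = (m + 7) * (m + 6) := rfl
    rw [this]
    exact Nat.div_mul_cancel (by
      have := Nat.even_mul_succ_self (m + 6)
      rw [mul_comm]
      exact this.two_dvd)
  have h2 : m + 7 - 1 = m + 6 := rfl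
  set N := (m + 7) * (m + 7 - 1) / 2 with hN
  rw [h2]
  have hNm : 2 * (f * N) = f * ((m + 7) * (m + 6)) := by rw [← h1]; ring
  have hfm : 0 ≤ f * m := Nat.zero_le _
  have hexp : f * ((m + 7) * (m + 6)) = f * (m * m) + 13 * (f * m) + 42 * f := by ring
  have hexp2 : 2 * f * (m + 6) = 2 * (f * m) + 12 * f := by ring
  have hfmm : m ≤ f * m := Nat.le_mul_of_pos_left m hf
  by_cases h2p : p = 2
  · subst h2p
    have h3 : a.factorization 2 = 0 := Nat.factorization_eq_zero_of_not_dvd fun h => by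
      rcases hao with ⟨k, hk⟩
      omega
    have h4 : b.factorization 2 = 0 := Nat.factorization_eq_zero_of_not_dvd fun h => by
      rcases hbo with ⟨k, hk⟩
      omega
    have h5 := mul_fac_le (p := 2) (m := f) Nat.prime_two (by omega)
    rw [h3, h4, fac_two_mul hf, two1, if_pos rfl]
    omega
  · have hp3 : 3 ≤ p := by
      have := hp.two_le
      omega
    have h3 := mul_fac_le (p := p) (m := a) hp (by omega)
    have h4 := mul_fac_le (p := p) (m := b) hp (by omega)
    have h5 := mul_fac_le (p := p) (m := f) hp (by omega)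
    have h3' := Nat.mul_le_mul_right (a.factorization p) hp3
    have h4' := Nat.mul_le_mul_right (b.factorization p) hp3
    have h5' := Nat.mul_le_mul_right (f.factorization p) hp3
    rw [fac_two_mul' hp h2p hf, two1, if_neg h2p]
    omega

theorem ineq_five {p f : ℕ} (hp : p.Prime) (hf : 1 ≤ f) (h : p ^ f ≠ 2) :
    Nat.factorization 5 p + (2 * f * (5 - 1) + two1 p + Nat.factorization (5 - 2) p) + (2 * f).factorization p <
      f * (5 * (5 - 1) / 2) := by
  by_cases h2p : p = 2
  · subst h2p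
    have h5 := mul_fac_le (p := 2) (m := f) Nat.prime_two (by omega)
    have hf2 : f ≠ 1 := by
      rintro rfl
      exact h (by norm_num)
    rw [Nat.factorization_eq_zero_of_not_dvd (n := 5) (p := 2) (by norm_num),
      Nat.factorization_eq_zero_of_not_dvd (n := 5 - 2) (p := 2) (by norm_num), fac_two_mul hf, two1, if_pos rfl]
    omega
  · have hp3 : 3 ≤ p := by
      have := hp.two_le
      omega
    have h5 := mul_fac_le (p := p) (m := f) hp (by omega)
    have h5' := Nat.mul_le_mul_right (f.factorization p) hp3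
    rw [fac_two_mul' hp h2p hf, two1, if_neg h2p]
    have h6 : Nat.factorization 5 p + Nat.factorization (5 - 2) p ≤ 1 := by
      by_cases h3 : p = 3
      · subst h3
        rw [Nat.factorization_eq_zero_of_not_dvd (n := 5) (p := 3) (by norm_num)]
        have := mul_fac_le (p := 3) (m := 5 - 2) hp (by norm_num)
        omega
      · have h7 : ¬ p ∣ 3 := fun h => h3 ((Nat.prime_dvd_prime_iff_eq hp Nat.prime_three).1 h)
        rw [Nat.factorization_eq_zero_of_not_dvd (n := 5 - 2) (p := p) (by norm_num; exact h7)]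
        have := mul_fac_le (p := p) (m := 5) hp (by norm_num)
        have := Nat.mul_le_mul_right (Nat.factorization 5 p) hp3
        omega
    omega

theorem ineq_six {p f : ℕ} (hp : p.Prime) (hf : 1 ≤ f) :
    (two1 p + Nat.factorization 5 p) + (f * (3 + 2 * 3) + Nat.factorization 6 p) + (2 * f).factorization p <
      f * (6 * (6 - 1) / 2) := by
  by_cases h2p : p = 2
  · subst h2p
    have h5 := mul_fac_le (p := 2) (m := f) Nat.prime_two (by omega)
    have h6 : Nat.factorization 6 2 = 1 := by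
      rw [show 6 = 2 * 3 from rfl, fac_two_mul (by norm_num), Nat.factorization_eq_zero_of_not_dvd (by norm_num)]
    rw [Nat.factorization_eq_zero_of_not_dvd (n := 5) (p := 2) (by norm_num), h6, fac_two_mul hf, two1, if_pos rfl]
    omega
  · have hp3 : 3 ≤ p := by
      have := hp.two_le
      omega
    have h5 := mul_fac_le (p := p) (m := f) hp (by omega)
    have h5' := Nat.mul_le_mul_right (f.factorization p) hp3
    have h6 := mul_fac_le (p := p) (m := 5) hp (by omega)
    have h6' := Nat.mul_le_mul_right (Nat.factorization 5 p) hp3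
    have h7 := mul_fac_le (p := p) (m := 6) hp (by omega)
    have h7' := Nat.mul_le_mul_right (Nat.factorization 6 p) hp3
    rw [fac_two_mul' hp h2p hf, two1, if_neg h2p]
    omega

theorem ineq_four {p f : ℕ} (hp : p.Prime) (hf : 1 ≤ f) (h2 : p ^ f ≠ 2) (h4 : p ^ f ≠ 4) :
    (two1 p + Nat.factorization 3 p) + (f * (2 + 2 * 1) + Nat.factorization 4 p) + (2 * f).factorization p <
      f * (4 * (4 - 1) / 2) := by
  by_cases h2p : p = 2
  · subst h2p
    have h5 := mul_fac_le (p := 2) (m := f) Nat.prime_two (by omega)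
    have hf1 : f ≠ 1 := by
      rintro rfl
      exact h2 (by norm_num)
    have hf2 : f ≠ 2 := by
      rintro rfl
      exact h4 (by norm_num)
    have h6 := mul_fac_le (p := 2) (m := 4) Nat.prime_two (by omega)
    rw [Nat.factorization_eq_zero_of_not_dvd (n := 3) (p := 2) (by norm_num), fac_two_mul hf, two1, if_pos rfl]
    omega
  · have hp3 : 3 ≤ p := by
      have := hp.two_le
      omega
    have h5 := mul_fac_le (p := p) (m := f) hp (by omega)
    have h5' := Nat.mul_le_mul_right (f.factorization p) hp3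
    have h6 := mul_fac_le (p := p) (m := 3) hp (by omega)
    have h6' := Nat.mul_le_mul_right (Nat.factorization 3 p) hp3
    have h7 : ¬ p ∣ 4 := by
      intro h
      have h8 : p ∣ 2 ^ 2 := h
      exact h2p ((Nat.prime_dvd_prime_iff_eq hp Nat.prime_two).1 (hp.dvd_of_dvd_pow h8))
    rw [Nat.factorization_eq_zero_of_not_dvd (n := 4) h7, fac_two_mul' hp h2p hf, two1, if_neg h2p]
    omega

/-! ### primes -/

section

variable {F : Type} [Field F] [Fintype F] {n q p f : ℕ}

/-- a primitive prime for `2 m` -/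
theorem ppd_two (hF : Fintype.card F = q ^ 2) (hp : p.Prime) (hf : 1 ≤ f) (hq : q = p ^ f) {m : ℕ} (hm : 2 ≤ m)
    (h : ¬ (q = 2 ∧ m = 3)) :
    ∃ r : ℕ, r.Prime ∧ orderOf ((q : ℕ) : ZMod r) = 2 * m ∧ orderOf ((Fintype.card F : ℕ) : ZMod r) = m ∧
      2 * m * f < r ∧ r ≠ p ∧ ¬ r ∣ Fintype.card F ∧ ¬ r ∣ q + 1 ∧ ¬ r ∣ 2 * f := by
  obtain ⟨r, hr, h1, h2⟩ := H901.Fac.exists_ppd (p := p) (f := f) (e := 2 * m) hp hf (by omega) (by
    rw [← hq]
    omega)
  rw [← hq] at h1
  have h3 : orderOf ((q ^ 2 : ℕ) : ZMod r) = m := orderOf_sq h1 (by omega)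
  have h4 : ¬ r ∣ Fintype.card F := by
    rw [hF]
    exact not_dvd_of_orderOf hr h3 (by omega)
  refine ⟨r, hr, h1, by rw [hF]; exact h3, h2, ?_, h4, not_dvd_add_one (one_lt_of_sq hF) h3 hm, ?_⟩
  · rintro rfl
    apply h4
    rw [hF, hq]
    exact (dvd_pow_self r (by omega)).trans (dvd_pow_self _ two_ne_zero)
  · intro h5
    have h6 := Nat.le_of_dvd (by omega) h5
    have h7 : 2 * f ≤ 2 * m * f := by
      rw [mul_assoc]
      exact Nat.mul_le_mul_left 2 (Nat.le_mul_of_pos_left f (by omega))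
    omega

theorem dvd_su_odd (hF : Fintype.card F = q ^ 2) {r m : ℕ} (hr : r.Prime)
    (h : orderOf ((q : ℕ) : ZMod r) = 2 * m) (hm : 2 ≤ m) (hmo : Odd m) (hmn : m ≤ n) : r ∣ Nat.card (SU n F q) := by
  have h1 := factor_dvd_card_SU hF (i := m - 1) (n := n) (by omega) (by omega)
  have h2 : Even (m - 1) := by
    obtain ⟨k, hk⟩ := hmo
    exact ⟨k, by omega⟩
  rw [if_pos h2, Nat.sub_add_cancel (by omega)] at h1
  have hq := one_lt_of_sq hF
  exact (dvd_pow_add_one hr (by omega) (by omega) h).trans h1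

/-- the row for two primes with `m`, `m'` odd -/
theorem row_big (hB : BdOfUnip) (hW : WittOneForm) (hF : Fintype.card F = q ^ 2)
    (hp : p.Prime) (hf : 1 ≤ f) (hq : q = p ^ f) {m A : ℕ} (hn : 5 ≤ n) (hmn : m ≤ n) (hnm : n ≤ m + 1) (hm : 5 ≤ m)
    (hmo : Odd m) (hn6 : n < 2 * (m - 2)) (h52 : ¬ (m = 5 ∧ q = 2))
    (hA : ∀ r : ℕ, r.Prime → r ≠ p → orderOf ((Fintype.card F : ℕ) : ZMod r) = m → Bd (SU n F q) r p A)
    (hlt : A + (2 * f * (n - 1) + two1 p + (m - 2).factorization p) + (2 * f).factorization p <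
      f * (n * (n - 1) / 2)) : NF (PSU n F q) := by
  have hq1 := one_lt_of_sq hF
  obtain ⟨r, hr, h1, h2, h3, h4, h5, h6, h7⟩ := ppd_two hF hp hf hq (m := m) (by omega) (by omega)
  obtain ⟨s, hs, k1, k2, k3, k4, k5, k6, k7⟩ := ppd_two hF hp hf hq (m := m - 2) (by omega) (by omega)
  have hmo' : Odd (m - 2) := by
    obtain ⟨k, hk⟩ := hmo
    exact ⟨k - 1, by omega⟩
  have hrm : 2 * m < r := lt_of_le_of_lt (Nat.le_mul_of_pos_right _ hf) h3
  have hsm : 2 * (m - 2) < s := lt_of_le_of_lt (Nat.le_mul_of_pos_right _ hf) k3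
  refine nf_of_pair hF (by omega) (by omega) hp hf hq hr hs (dvd_su_odd hF hr h1 (by omega) hmo hmn)
    (dvd_su_odd hF hs k1 (by omega) hmo' (by omega)) h6 k6 h7 k7 ?_ (hA r hr h4 h2)
    (bd_witt hB hW hF hp hf hq hs k4 hn6 (by omega) k2) ?_
  · refine sep_su hr hs h5 k5 h2 k2 (by omega) (by omega) ?_ ?_ ?_ ?_
    · intro h
      have h8 : m - 2 ∣ m - (m - 2) := Nat.dvd_sub h dvd_rfl
      have h9 := Nat.le_of_dvd (by omega) h8
      omega
    · intro h
      have := Nat.le_of_dvd (by omega) h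
      omega
    · intro h
      have := Nat.le_of_dvd (by omega) h
      omega
    · have := Nat.le_mul_of_pos_right r (show 0 < m - 2 by omega)
      omega
  · rw [fac_psu hF (by omega) hp hf hq, fac_gcd hp hf hq (by omega)]
    exact hlt

/-- **`n = 4`.** -/
theorem row_four (hB : BdOfUnip) (hA : AnisoForm) (hF : Fintype.card F = q ^ 2) (hp : p.Prime) (hf : 1 ≤ f)
    (hq : q = p ^ f) (h2 : q ≠ 2) (h4 : q ≠ 4) : NF (PSU 4 F q) := by
  have hq1 := one_lt_of_sq hF
  obtain ⟨r, hr, h1, h2', h3, h4', h5, h6, h7⟩ := ppd_two hF hp hf hq (m := 3) (by omega) (by omega)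
  obtain ⟨s, hs, k1, k2, k3, k4, k5, k6, k7⟩ := ppd_two hF hp hf hq (m := 2) (by omega) (by omega)
  have hrm : 2 * 3 < r := lt_of_le_of_lt (Nat.le_mul_of_pos_right _ hf) h3
  have hsm : 2 * 2 < s := lt_of_le_of_lt (Nat.le_mul_of_pos_right _ hf) k3
  have hsT : s ∣ Nat.card (SU 4 F q) := by
    have h1 := factor_dvd_card_SU hF (i := 3) (n := 4) (by omega) (by omega)
    rw [if_neg (by decide)] at h1
    exact (dvd_pow_sub_one (by omega) k1).trans h1
  have ho : orderOf ((xv false q : ℤ) : ZMod s) = 4 := by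
    have hsf := Fact.mk hs
    have h8 : ((xv false q : ℤ) : ZMod s) = -(q : ZMod s) := by
      unfold xv
      rw [if_neg (by decide), Int.cast_neg, Int.cast_natCast]
    rw [h8]
    have h9 : (q : ZMod s) ^ 4 = 1 := by
      rw [show 4 = 2 * 2 from rfl, ← k1]
      exact pow_orderOf_eq_one _
    refine orderOf_eq_prime_pow (p := 2) (n := 1) ?_ ?_
    · rw [pow_one, neg_sq]
      intro h10
      have h11 := orderOf_dvd_of_pow_eq_one h10
      rw [k1] at h11
      norm_num at h11
    · rw [show 2 ^ (1 + 1) = 4 from rfl, Even.neg_pow (by decide), h9]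
  refine nf_of_pair hF (by omega) (by omega) hp hf hq hr hs (dvd_su_odd hF hr h1 (by omega) (by decide) (by omega))
    hsT h6 k6 h7 k7 ?_ (bd_aniso hB hA hF hp hf hq hr h4' (by norm_num) (by norm_num) h2')
    (bd_half hF hp hf hq hs k4 (c := 1) (by norm_num) (by norm_num) (by decide) k2 ho) ?_
  · refine sep_su hr hs h5 k5 h2' k2 (by omega) (by omega) (by omega) ?_ ?_ (by omega)
    · intro h
      have := Nat.le_of_dvd (by omega) h
      omega
    · intro h
      have := Nat.le_of_dvd (by omega) h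
      omega
  · rw [fac_psu hF (by omega) hp hf hq, fac_gcd hp hf hq (by omega)]
    exact ineq_four hp hf (hq ▸ h2) (hq ▸ h4)

/-- **`n = 6`** (with `q = 2`). -/
theorem row_six (hB : BdOfUnip) (hA : AnisoForm) (hF : Fintype.card F = q ^ 2) (hp : p.Prime) (hf : 1 ≤ f)
    (hq : q = p ^ f) : NF (PSU 6 F q) := by
  have hq1 := one_lt_of_sq hF
  obtain ⟨r, hr, h1, h2', h3, h4', h5, h6, h7⟩ := ppd_two hF hp hf hq (m := 5) (by omega) (by omega)
  obtain ⟨s, hs, k1, k3⟩ := H901.Fac.exists_ppd (p := p) (f := f) (e := 3) hp hf (by omega) (by omega)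
  rw [← hq] at k1
  have hrm : 2 * 5 < r := lt_of_le_of_lt (Nat.le_mul_of_pos_right _ hf) h3
  have hs3 : 3 ∣ s - 1 := dvd_pred hs k1 (by norm_num)
  have hs3' : 3 < s := lt_of_le_of_lt (Nat.le_mul_of_pos_right _ hf) k3
  have hs7 : 7 ≤ s := by
    have h8 : s ≠ 4 := by
      rintro rfl
      exact absurd hs (by norm_num)
    omega
  have hsF : ¬ s ∣ Fintype.card F := by
    rw [hF]
    intro h
    exact not_dvd_of_orderOf hs k1 (by norm_num) (hs.dvd_of_dvd_pow h)
  have hsp : s ≠ p := by
    rintro rfl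
    apply hsF
    rw [hF, hq]
    exact (dvd_pow_self s (by omega)).trans (dvd_pow_self _ two_ne_zero)
  have hsf := Fact.mk hs
  have h9 : (q : ZMod s) ^ 3 = 1 := by
    rw [← k1]
    exact pow_orderOf_eq_one _
  have hq1' : (q : ZMod s) ≠ 1 := by
    intro h
    rw [h, orderOf_one] at k1
    norm_num at k1
  have h3f : Fact (Nat.Prime 3) := ⟨Nat.prime_three⟩
  have k2 : orderOf ((Fintype.card F : ℕ) : ZMod s) = 3 := by
    rw [hF, Nat.cast_pow]
    refine orderOf_eq_prime ?_ ?_
    · rw [← pow_mul, mul_comm, pow_mul, h9, one_pow]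
    · intro h
      apply hq1'
      calc (q : ZMod s) = q * (q ^ 2) := by rw [h, mul_one]
        _ = q ^ 3 := by ring
        _ = 1 := h9
  have hneg : (-1 : ZMod s) ≠ 1 := by
    intro h
    have h10 : (2 : ZMod s) = 0 := by
      calc (2 : ZMod s) = 1 - -1 := by ring
        _ = 0 := by rw [h, sub_self]
    have h11 : ((2 : ℕ) : ZMod s) = 0 := by exact_mod_cast h10
    rw [ZMod.natCast_eq_zero_iff] at h11
    have := Nat.le_of_dvd (by norm_num) h11
    omega
  have ho : orderOf ((xv false q : ℤ) : ZMod s) = 6 := by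
    have h8 : ((xv false q : ℤ) : ZMod s) = -(q : ZMod s) := by
      unfold xv
      rw [if_neg (by decide), Int.cast_neg, Int.cast_natCast]
    rw [h8]
    have h10 : orderOf (-(q : ZMod s)) ∣ 6 := by
      apply orderOf_dvd_of_pow_eq_one
      rw [Even.neg_pow (by decide), show 6 = 3 * 2 from rfl, pow_mul, h9, one_pow]
    have h11 : ¬ orderOf (-(q : ZMod s)) ∣ 3 := by
      intro h
      have h12 := orderOf_dvd_iff_pow_eq_one.1 h
      rw [Odd.neg_pow (by decide), h9] at h12
      exact hneg h12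
    have h12 : ¬ orderOf (-(q : ZMod s)) ∣ 2 := by
      intro h
      have h13 := orderOf_dvd_iff_pow_eq_one.1 h
      rw [neg_sq] at h13
      apply hq1'
      calc (q : ZMod s) = q * (q ^ 2) := by rw [h13, mul_one]
        _ = q ^ 3 := by ring
        _ = 1 := h9
    have h13 := Nat.le_of_dvd (by norm_num) h10
    generalize orderOf (-(q : ZMod s)) = t at h10 h11 h12 h13
    interval_cases t <;> omega
  have hsq : ¬ s ∣ q + 1 := by
    intro h
    have h10 : ((q + 1 : ℕ) : ZMod s) = 0 := (ZMod.natCast_eq_zero_iff _ _).2 h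
    push_cast at h10
    have h11 : (q : ZMod s) = -1 := eq_neg_of_add_eq_zero_left h10
    rw [h11] at h9
    rw [Odd.neg_one_pow (by decide)] at h9
    exact hneg h9
  have hs2f : ¬ s ∣ 2 * f := by
    intro h
    have := Nat.le_of_dvd (by omega) h
    omega
  have hsT : s ∣ Nat.card (SU 6 F q) := by
    have h1 := factor_dvd_card_SU hF (i := 5) (n := 6) (by omega) (by omega)
    rw [if_neg (by decide)] at h1
    have h10 : ((q ^ (5 + 1) - 1 : ℕ) : ZMod s) = 0 := by
      rw [Nat.cast_sub (Nat.one_le_pow _ _ (by omega)), Nat.cast_pow, show 5 + 1 = 3 * 2 from rfl, pow_mul, h9, one_pow,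
        Nat.cast_one, sub_self]
    exact ((ZMod.natCast_eq_zero_iff _ _).1 h10).trans h1
  refine nf_of_pair hF (by omega) (by omega) hp hf hq hr hs (dvd_su_odd hF hr h1 (by omega) (by decide) (by omega))
    hsT h6 hsq h7 hs2f ?_ (bd_aniso hB hA hF hp hf hq hr h4' (by norm_num) (by norm_num) h2')
    (bd_half hF hp hf hq hs hsp (c := 3) (by norm_num) (by norm_num) (by decide) k2 ho) ?_
  · refine sep_su hr hs h5 hsF h2' k2 (by omega) (by omega) (by omega) ?_ ?_ (by omega)
    · intro h
      have := Nat.le_of_dvd (by omega) h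
      omega
    · intro h
      have := Nat.le_of_dvd (by omega) h
      omega
  · rw [fac_psu hF (by omega) hp hf hq, fac_gcd hp hf hq (by omega)]
    exact ineq_six hp hf

end

/-- **The rows `PSU n F q`, `n ≥ 4`.** -/
theorem psu (hB : BdOfUnip) (hA : AnisoForm) (hW : WittOneForm) (hL : UnipLin) (F : Type) [Field F] [Fintype F]
    (n q : ℕ) (hF : Fintype.card F = q ^ 2) (hn : 4 ≤ n) (h42 : ¬ (n = 4 ∧ q = 2)) (h52 : ¬ (n = 5 ∧ q = 2)) :
    NF (Cfsg.PSU n F q) := by
  have hq1 := one_lt_of_sq hF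
  obtain ⟨k, hp, hk⟩ := FiniteField.card F (ringChar F)
  set p := ringChar F
  obtain ⟨f, -, hq⟩ : ∃ f ≤ (k : ℕ), q = p ^ f := by
    rw [← Nat.dvd_prime_pow hp, ← hk, hF]
    exact dvd_pow_self q two_ne_zero
  have hf : 1 ≤ f := by
    rcases Nat.eq_zero_or_pos f with h | h
    · rw [h, pow_zero] at hq
      omega
    · exact h
  rcases Nat.even_or_odd n with he | ho
  · by_cases h4 : n = 4
    · subst h4
      by_cases hq4 : q = 4
      · subst hq4
        exact u44 hB hF
      · exact row_four hB hA hF hp hf hq (fun h => h42 ⟨rfl, h⟩) hq4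
    · by_cases h6 : n = 6
      · subst h6
        exact row_six hB hA hF hp hf hq
      · have h8 : 8 ≤ n := by
          obtain ⟨k, hk⟩ := he
          omega
        have hmo : Odd (n - 1) := by
          obtain ⟨k, hk⟩ := he
          exact ⟨k - 1, by omega⟩
        have hmo' : Odd (n - 1 - 2) := by
          obtain ⟨k, hk⟩ := he
          exact ⟨k - 2, by omega⟩
        exact row_big hB hW hF hp hf hq (m := n - 1) (A := two1 p + (n - 1).factorization p) (by omega) (by omega)
          (by omega) (by omega) hmo (by omega) (by omega)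
          (fun r hr hrp he => bd_aniso hB hA hF hp hf hq hr hrp (by omega) (by omega) he)
          (ineq_big hp (by omega) hf (by omega) (by omega) (by omega) (by omega) hmo hmo')
  · have h5 : 5 ≤ n := by
      obtain ⟨k, hk⟩ := ho
      omega
    refine row_big hB hW hF hp hf hq (m := n) (A := n.factorization p) h5 le_rfl (by omega) h5 ho (by omega) h52
      (fun r hr hrp he => bd_full hB hL hF hp hq hr hrp (by omega) he) ?_
    by_cases h5' : n = 5
    · subst h5'
      exact ineq_five hp hf (fun h => h52 ⟨rfl, hq.trans h⟩)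
    · have hmo' : Odd (n - 2) := by
        obtain ⟨k, hk⟩ := ho
        exact ⟨k - 1, by omega⟩
      have := ineq_big (a := n) (b := n - 2) hp (show 7 ≤ n by obtain ⟨k, hk⟩ := ho; omega) hf (by omega) (by omega)
        (by omega) (by omega) ho hmo'
      omega

end Cfsg.Agent.H272.NFU
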