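import Mathlib
import Cfsg.Agent.OddOrderLocal.Thm34

/-!
Twisting (for S3041, Shult): `x` of odd prime order `r` acts on a `q`-group `P` with `[P, x] = P`, `Px` acts on a
module `M` over `ZMod 2`, `z ∈ P` is central in `P`, commutes with `x` and acts nontrivially on `M`; then
`dim [M, x] ≥ 2 (r - 1)` (`two_le`).
-/

set_option autoImplicit false

namespace Cfsg.Agent.H272.ShultTwist

open Module Cfsg.Agent.OddOrderLocal.Thm34
open scoped TensorProduct commutatorElement

universe u v w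

/-- Over an algebraically closed field: on the `ζ`-eigenspace of `z`, `ζ ≠ 1`, every `r`-th root of unity is an
eigenvalue of `x`. -/
theorem exists_eig {F : Type} [Field F] [IsAlgClosed F] {Y : Type u} [Group Y] [Finite Y] {V : Type v}
    [AddCommGroup V] [Module F V] [FiniteDimensional F V] (ρ : Representation F Y V) (P : Subgroup Y)
    (x z : Y) {r : ℕ} (hr : r.Prime) (hr2 : r ≠ 2) (hxr : x ^ r = 1) (hxP : ∀ g ∈ P, x * g * x⁻¹ ∈ P)
    (hsol : Group.IsSolvable P) (hodd : Odd (Nat.card P)) (hrP : ¬ r ∣ Nat.card P)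
    (hPF : (Nat.card P : F) ≠ 0) (hrF : (r : F) ≠ 0) (hPx : z ∈ ⁅P, Subgroup.zpowers x⁆)
    (hz : ∀ g ∈ P, z * g = g * z) (hzx : z * x = x * z) (ζ : F) (hζ : ζ ≠ 1)
    (hv : ∃ v : V, v ≠ 0 ∧ ρ z v = ζ • v) (a : F) (ha : a ^ r = 1) :
    ∃ v : V, v ≠ 0 ∧ ρ z v = ζ • v ∧ ρ x v = a • v := by
  classical
  by_contra hno
  push Not at hno
  have ha0 : a ≠ 0 := by
    rintro rfl
    rw [zero_pow hr.ne_zero] at ha
    exact zero_ne_one ha
  set C : Subgroup Y := Subgroup.centralizer {z} with hC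
  have hCmem : ∀ {g : Y}, g ∈ C ↔ g * z = z * g := Subgroup.mem_centralizer_singleton_iff
  have hPC : P ≤ C := fun g hg => hCmem.2 (hz g hg).symm
  have hxC : x ∈ C := hCmem.2 hzx.symm
  have hzC : z ∈ C := hCmem.2 rfl
  set E : Submodule F V := (End.eigenspace (ρ z) ζ) with hE
  have hEmem : ∀ {v : V}, v ∈ E ↔ ρ z v = ζ • v := End.mem_eigenspace_iff
  have hinv : ∀ g : C, ∀ v ∈ E, ρ g v ∈ E := by
    intro g v hv
    rw [hEmem] at hv ⊢
    have h1 : ρ z (ρ g v) = ρ g (ρ z v) := by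
      rw [← Module.End.mul_apply, ← Module.End.mul_apply, ← map_mul, ← map_mul, hCmem.1 g.2]
    rw [h1, hv, map_smul]
  let σ : C →* End F E :=
    { toFun := fun g => (ρ g).restrict (hinv g)
      map_one' := by
        ext v
        simp
      map_mul' := by
        intro g h
        ext v
        simp }
  have hσ : ∀ (g : C) (v : E), ((σ g v : E) : V) = ρ g v := fun g v => rfl
  let t : Fˣ := (Units.mk0 a ha0)⁻¹
  have ht : t ^ r = 1 := by
    apply Units.ext
    simp [t, ha]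
  have htfin : Finite (Subgroup.zpowers t) := by
    have h := finite_zpowers.2 (isOfFinOrder_iff_pow_eq_one.2 ⟨r, hr.pos, ht⟩)
    exact h.to_subtype
  let τ : Representation F (C × Subgroup.zpowers t) E :=
    { toFun := fun g => ((g.2 : Fˣ) : F) • σ g.1
      map_one' := by simp
      map_mul' := by
        intro g h
        simp only [Prod.fst_mul, Prod.snd_mul, map_mul, Subgroup.coe_mul, Units.val_mul]
        rw [smul_mul_smul_comm] }
  have hτ : ∀ (g : C × Subgroup.zpowers t), τ g = ((g.2 : Fˣ) : F) • σ g.1 := fun g => rfl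
  let xC : C := ⟨x, hxC⟩
  let P₁ : Subgroup C := P.subgroupOf C
  have hcard : Nat.card P₁ = Nat.card P :=
    Nat.card_congr (Subgroup.subgroupOfEquivOfLe hPC).toEquiv
  let K : Subgroup (C × Subgroup.zpowers t) := P₁.prod ⊥
  have hKcard : Nat.card K = Nat.card P := by
    rw [← hcard, Nat.card_congr (Subgroup.prodEquiv P₁ ⊥).toEquiv, Nat.card_prod, Subgroup.card_bot, mul_one]
  have hKmem : ∀ {g : C × Subgroup.zpowers t}, g ∈ K ↔ (g.1 : Y) ∈ P ∧ g.2 = 1 := by
    intro g
    rw [Subgroup.mem_prod, Subgroup.mem_subgroupOf, Subgroup.mem_bot]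
  have hKsol : Group.IsSolvable K := by
    have h1 : Group.IsSolvable P₁ := by
      have := hsol
      exact Group.isSolvable_of_isSolvable_injective (f := (Subgroup.subgroupOfEquivOfLe hPC).toMonoidHom)
        (Subgroup.subgroupOfEquivOfLe hPC).injective
    let f : K →* P₁ :=
      { toFun := fun k => ⟨k.1.1, Subgroup.mem_subgroupOf.2 (hKmem.1 k.2).1⟩
        map_one' := rfl
        map_mul' := fun _ _ => rfl }
    refine Group.isSolvable_of_isSolvable_injective (f := f) ?_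
    intro k l hkl
    have h2 : k.1.1 = l.1.1 := congrArg Subtype.val hkl
    exact Subtype.ext (Prod.ext h2 (((hKmem.1 k.2).2).trans ((hKmem.1 l.2).2).symm))
  have hcomm := comm_of_no_fixed_algClosed τ K (xC, ⟨t, Subgroup.mem_zpowers t⟩) hr hr2
    (by
      apply Prod.ext
      · exact Subtype.ext (by simpa [xC] using hxr)
      · exact Subtype.ext (by simpa using ht))
    (by
      intro k hk
      rw [hKmem] at hk ⊢
      refine ⟨?_, ?_⟩
      · simpa [xC] using hxP _ hk.1
      · simp [hk.2])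
    hKsol (by rw [hKcard]; exact hodd) (by rw [hKcard]; exact hrP) (by rw [hKcard]; exact hPF) hrF
    (by
      intro v hv
      rw [hτ, LinearMap.smul_apply] at hv
      have h1 : ρ x (v : V) = a • (v : V) := by
        have h2 : (((t : Fˣ) : F) • ρ x (v : V)) = (v : V) := congrArg Subtype.val hv
        have h3 : (t : F) = a⁻¹ := by simp [t]
        rw [h3] at h2
        calc ρ x (v : V) = (a * a⁻¹) • ρ x (v : V) := by rw [mul_inv_cancel₀ ha0, one_smul]
          _ = a • (a⁻¹ • ρ x (v : V)) := by rw [smul_smul]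
          _ = a • (v : V) := by rw [h2]
      by_contra hv0
      exact hno v (fun h => hv0 (Subtype.ext h)) (hEmem.1 v.2) h1)
  have hcomm' : ∀ k : C, (k : Y) ∈ P → ⁅k, xC⁆ ∈ σ.ker := by
    intro k hk
    have h1 := hcomm (k, 1) (hKmem.2 ⟨hk, rfl⟩)
    rw [hτ, hτ] at h1
    have h2 : σ (xC * k) = σ (k * xC) := by
      have h3 : ((t : Fˣ) : F) • σ (xC * k) = ((t : Fˣ) : F) • σ (k * xC) := by
        simpa using h1
      exact smul_right_injective _ (Units.ne_zero t) h3
    rw [MonoidHom.mem_ker]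
    have h4 : k * xC = ⁅k, xC⁆ * (xC * k) := by
      rw [commutatorElement_def]; group
    have h5 : σ (xC * k) * σ (xC * k)⁻¹ = 1 := by rw [← map_mul, mul_inv_cancel, map_one]
    calc σ ⁅k, xC⁆ = σ ⁅k, xC⁆ * (σ (xC * k) * σ (xC * k)⁻¹) := by rw [h5, mul_one]
      _ = (σ ⁅k, xC⁆ * σ (xC * k)) * σ (xC * k)⁻¹ := by rw [mul_assoc]
      _ = σ (⁅k, xC⁆ * (xC * k)) * σ (xC * k)⁻¹ := by rw [← map_mul]
      _ = 1 := by rw [← h4, ← h2, h5]
  have h6 : ⁅P₁, Subgroup.zpowers xC⁆ ≤ σ.ker :=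
    commutator_zpowers_le P₁ xC σ.ker (fun k hk => hcomm' k (Subgroup.mem_subgroupOf.1 hk))
  have h7 : (⟨z, hzC⟩ : C) ∈ ⁅P₁, Subgroup.zpowers xC⁆ := by
    have h8 : Subgroup.map C.subtype ⁅P₁, Subgroup.zpowers xC⁆ = ⁅P, Subgroup.zpowers x⁆ := by
      rw [Subgroup.map_commutator]
      congr 1
      · exact Subgroup.map_subgroupOf_eq_of_le hPC
      · rw [MonoidHom.map_zpowers]; rfl
    rw [← h8] at hPx
    obtain ⟨y, hy, hyz⟩ := hPx
    have : y = ⟨z, hzC⟩ := Subtype.ext hyz
    rwa [← this]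
  have h9 := h6 h7
  rw [MonoidHom.mem_ker] at h9
  obtain ⟨v, hv0, hv⟩ := hv
  have h10 := congrArg Subtype.val (LinearMap.congr_fun h9 (⟨v, hEmem.2 hv⟩ : E))
  rw [hσ] at h10
  have h11 : ρ z v = v := h10
  rw [hv] at h11
  have h12 : (ζ - 1) • v = 0 := by rw [sub_smul, h11, one_smul, sub_self]
  rcases smul_eq_zero.1 h12 with h | h
  · exact hζ (sub_eq_zero.1 h)
  · exact hv0 h

/-- An operator of odd order over an algebraically closed field of characteristic two, not `1`, has an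
eigenvalue `≠ 1`. -/
theorem exists_eigenvalue_ne_one {F : Type*} [Field F] [IsAlgClosed F] {V : Type*}
    [AddCommGroup V] [Module F V] [FiniteDimensional F V] (A : End F V) (N : ℕ) (hN : (N : F) ≠ 0)
    (hA : A ^ N = 1) (hA1 : A ≠ 1) : ∃ ζ : F, ζ ≠ 1 ∧ A.HasEigenvalue ζ := by
  set W : Submodule F V := LinearMap.range (A - 1) with hW
  have hWinv : ∀ v ∈ W, A v ∈ W := by
    rintro v ⟨w, rfl⟩
    exact ⟨A w, by simp⟩
  have hW0 : Nontrivial W := by
    rw [Submodule.nontrivial_iff_ne_bot]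
    intro h
    apply hA1
    rw [hW, LinearMap.range_eq_bot, sub_eq_zero] at h
    exact h
  obtain ⟨ζ, hζ⟩ := End.exists_eigenvalue (A.restrict hWinv)
  obtain ⟨v, hv⟩ := hζ.exists_hasEigenvector
  have hv1 : A (v : V) = ζ • (v : V) := congrArg Subtype.val hv.apply_eq_smul
  have hv0 : (v : V) ≠ 0 := fun h => hv.2 (Subtype.ext h)
  refine ⟨ζ, ?_, End.hasEigenvalue_of_hasEigenvector ⟨End.mem_eigenspace_iff.2 hv1, hv0⟩⟩
  rintro rfl
  rw [one_smul] at hv1
  obtain ⟨w, hw⟩ := v.2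
  have hw1 : A w = w + v := by
    rw [← hw, LinearMap.sub_apply, End.one_apply]; abel
  have h1 : ∀ n : ℕ, (A ^ n) w = w + (n : F) • (v : V) := by
    intro n
    induction n with
    | zero => simp
    | succ n ih =>
      rw [pow_succ', End.mul_apply, ih, map_add, map_smul, hv1, hw1, Nat.cast_succ, add_smul, one_smul]
      abel
  have h2 := h1 N
  rw [hA, End.one_apply] at h2
  have h3 : (N : F) • (v : V) = 0 := by
    have := h2.symm
    rwa [add_eq_left] at this
  rcases smul_eq_zero.1 h3 with h | h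
  · exact hN h
  · exact hv0 h

theorem mem_range_sub_one {F V : Type*} [Field F] [AddCommGroup V] [Module F V] (A : End F V) (v : V)
    (a : F) (ha : a ≠ 1) (h : A v = a • v) : v ∈ LinearMap.range (A - 1) := by
  have ha1 : a - 1 ≠ 0 := sub_ne_zero.2 ha
  refine ⟨(a - 1)⁻¹ • v, ?_⟩
  rw [map_smul, LinearMap.sub_apply, End.one_apply, h]
  have : a • v - v = (a - 1) • v := by rw [sub_smul, one_smul]
  rw [this, smul_smul, inv_mul_cancel₀ ha1, one_smul]

theorem pow_eq_one_of_eigenvalue {F V : Type*} [Field F] [AddCommGroup V] [Module F V] (A : End F V)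
    {N : ℕ} (hA : A ^ N = 1) {ζ : F} (hζ : A.HasEigenvalue ζ) : ζ ^ N = 1 := by
  obtain ⟨v, hv⟩ := hζ.exists_hasEigenvector
  have h1 : (A ^ N) v = ζ ^ N • v := hv.pow_apply _
  rw [hA, End.one_apply] at h1
  have h2 : (ζ ^ N - 1) • v = 0 := by rw [sub_smul, ← h1, one_smul, sub_self]
  rcases smul_eq_zero.1 h2 with h | h
  · exact sub_eq_zero.1 h
  · exact absurd h hv.2

/-- Squares of eigenvalues of the base change of an `F_2`-operator are eigenvalues. -/
theorem sq_eigenvalue {F : Type*} [Field F] [Algebra (ZMod 2) F] {M : Type*} [AddCommGroup M]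
    [Module (ZMod 2) M] [Module.Finite (ZMod 2) M] (A : End (ZMod 2) M) (ζ : F)
    (h : End.HasEigenvalue (LinearMap.baseChange F A) ζ) :
    End.HasEigenvalue (LinearMap.baseChange F A) (ζ ^ 2) := by
  rw [End.hasEigenvalue_iff_isRoot_charpoly, LinearMap.charpoly_baseChange, Polynomial.IsRoot,
    Polynomial.eval_map_algebraMap] at h ⊢
  rw [← Polynomial.expand_aeval, ZMod.expand_card, map_pow, h, zero_pow two_ne_zero]

/-- The rank is not increased by base change. -/
theorem rank_bc_le {k : Type*} [Field k] {F : Type*} [Field F] [Algebra k F] {M : Type*} [AddCommGroup M]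
    [Module k M] [Module.Finite k M] (A : End k M) :
    finrank F (LinearMap.range (LinearMap.baseChange F A)) ≤ finrank k (LinearMap.range A) := by
  have h1 : A = (LinearMap.range A).subtype ∘ₗ A.rangeRestrict := rfl
  have h2 : LinearMap.baseChange F A = (LinearMap.baseChange F (LinearMap.range A).subtype) ∘ₗ
      (LinearMap.baseChange F A.rangeRestrict) := by
    rw [← LinearMap.baseChange_comp, ← h1]
  have h3 : LinearMap.range (LinearMap.baseChange F A) ≤
      LinearMap.range (LinearMap.baseChange F (LinearMap.range A).subtype) := by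
    rw [h2]; exact LinearMap.range_comp_le_range _ _
  calc _ ≤ finrank F (LinearMap.range (LinearMap.baseChange F (LinearMap.range A).subtype)) :=
        Submodule.finrank_mono h3
    _ ≤ finrank F (F ⊗[k] (LinearMap.range A)) := LinearMap.finrank_range_le _
    _ = _ := Module.finrank_baseChange

theorem two_le_aux (F : Type) [Field F] [IsAlgClosed F] [CharP F 2] [Algebra (ZMod 2) F]
    {Y : Type u} [Group Y] [Finite Y] {M : Type v} [AddCommGroup M] [Module (ZMod 2) M]
    [Finite M] (ρ : Representation (ZMod 2) Y M) (P : Subgroup Y) (x z : Y) {q r : ℕ} (hq : q.Prime)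
    (hq2 : q ≠ 2) (hr : r.Prime) (hr2 : r ≠ 2) (hqr : q ≠ r) (hP : IsPGroup q P) (hxr : x ^ r = 1)
    (hxP : ∀ g ∈ P, x * g * x⁻¹ ∈ P) (hPx : ⁅P, Subgroup.zpowers x⁆ = P) (hzP : z ∈ P)
    (hzc : ∀ g ∈ P, z * g = g * z) (hzx : z * x = x * z) (hz : ρ z ≠ 1) :
    2 * (r - 1) ≤ Module.finrank (ZMod 2) (LinearMap.range (ρ x - 1)) := by
  classical
  have := Fact.mk hq
  have hcast : ∀ n : ℕ, Odd n → (n : F) ≠ 0 := by
    intro n hn h
    rw [CharP.cast_eq_zero_iff F 2] at h
    exact (Nat.not_even_iff_odd.2 hn) (even_iff_two_dvd.2 h)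
  obtain ⟨n, hn⟩ := IsPGroup.iff_card.1 hP
  have hqodd : Odd q := hq.odd_of_ne_two hq2
  have hrodd : Odd r := hr.odd_of_ne_two hr2
  have hPodd : Odd (Nat.card P) := by rw [hn]; exact hqodd.pow
  have hrP : ¬ r ∣ Nat.card P := by
    rw [hn]
    intro h
    exact hqr ((Nat.prime_dvd_prime_iff_eq hr hq).1 (hr.dvd_of_dvd_pow h)).symm
  have hrF : (r : F) ≠ 0 := hcast r hrodd
  have : NeZero (r : F) := ⟨hrF⟩
  have hsol : Group.IsSolvable P := by
    have := hP.isNilpotent
    infer_instance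
  have hzN : z ^ (q ^ n) = 1 := by
    have h1 : (⟨z, hzP⟩ : P) ^ Nat.card P = 1 := pow_card_eq_one'
    rw [hn] at h1
    exact congrArg Subtype.val h1
  set A : End (ZMod 2) M := ρ z with hA
  set B : End F (F ⊗[ZMod 2] M) := LinearMap.baseChange F A with hB
  have hbcB : bc F ρ z = B := rfl
  obtain ⟨ζ, hζ1, hζ⟩ := exists_eigenvalue_ne_one B (q ^ n) (by
      rw [← hn]; exact hcast _ hPodd) (by
      rw [← hbcB, ← map_pow, hzN, map_one]) (by
      intro h
      apply hz
      have h2 : bc F ρ z = bc F ρ 1 := by rw [hbcB, h, map_one]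
      have h3 := eq_of_bc h2
      rw [map_one] at h3
      exact h3)
  have hζ2 := sq_eigenvalue A ζ hζ
  have hζN : ζ ^ (q ^ n) = 1 := pow_eq_one_of_eigenvalue B
    (by rw [← hbcB, ← map_pow, hzN, map_one]) hζ
  have hζ0 : ζ ≠ 0 := by
    rintro rfl
    rw [zero_pow (pow_ne_zero _ hq.ne_zero)] at hζN
    exact zero_ne_one hζN
  have hζne : ζ ≠ ζ ^ 2 := by
    intro h
    apply hζ1
    have h1 : ζ * ζ = ζ * 1 := by rw [mul_one, ← pow_two, ← h]
    exact mul_left_cancel₀ hζ0 h1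
  have hζ21 : ζ ^ 2 ≠ 1 := by
    intro h
    apply hζ1
    have h3 : (ζ - 1) ^ 2 = 0 := by
      have h4 : (2 : F) = 0 := by exact_mod_cast CharP.cast_eq_zero F 2
      have h5 : (ζ - 1) ^ 2 = ζ ^ 2 - 1 + 2 * (1 - ζ) := by ring
      rw [h5, h, h4, zero_mul, add_zero, sub_self]
    exact sub_eq_zero.1 (pow_eq_zero_iff two_ne_zero |>.1 h3)
  obtain ⟨ω, hω⟩ : ∃ ω : F, IsPrimitiveRoot ω r := HasEnoughRootsOfUnity.exists_primitiveRoot F r
  -- the common eigenvectors
  have hall : ∀ (b : F), (b = ζ ∨ b = ζ ^ 2) → ∀ a : F, a ^ r = 1 →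
      ∃ v : F ⊗[ZMod 2] M, v ≠ 0 ∧ bc F ρ z v = b • v ∧ bc F ρ x v = a • v := by
    intro b hb a ha
    have hb1 : b ≠ 1 := by
      rcases hb with rfl | rfl
      · exact hζ1
      · exact hζ21
    have hbe : B.HasEigenvalue b := by
      rcases hb with rfl | rfl
      · exact hζ
      · exact hζ2
    obtain ⟨v, hv⟩ := hbe.exists_hasEigenvector
    exact exists_eig (bc F ρ) P x z hr hr2 hxr hxP hsol hPodd hrP (hcast _ hPodd) hrF
      (by rw [hPx]; exact hzP) hzc hzx b hb1 ⟨v, hv.2, hv.apply_eq_smul⟩ a ha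
  let S : Finset F := (Polynomial.nthRootsFinset r (1 : F)).erase 1
  have hS : ∀ {a : F}, a ∈ S ↔ a ≠ 1 ∧ a ^ r = 1 := by
    intro a
    rw [Finset.mem_erase, Polynomial.mem_nthRootsFinset hr.pos]
  have hScard : S.card = r - 1 := by
    rw [Finset.card_erase_of_mem, hω.card_nthRootsFinset]
    rw [Polynomial.mem_nthRootsFinset hr.pos, one_pow]
  let Q : Finset F := {ζ, ζ ^ 2}
  have hQcard : Q.card = 2 := Finset.card_pair hζne
  have hQ : ∀ {b : F}, b ∈ Q ↔ b = ζ ∨ b = ζ ^ 2 := by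
    intro b
    simp [Q]
  have hQN : ∀ {b : F}, b ∈ Q → b ^ (q ^ n) = 1 := by
    intro b hb
    rcases hQ.1 hb with rfl | rfl
    · exact hζN
    · rw [← pow_mul, mul_comm, pow_mul, hζN, one_pow]
  choose f hf using fun i : Q × S => hall i.1 (hQ.1 i.1.2) i.2 (hS.1 i.2.2).2
  have hli : LinearIndependent F f := by
    refine End.eigenvectors_linearIndependent' (bc F ρ (z * x)) (fun i : Q × S => (i.1 : F) * (i.2 : F))
      ?_ f ?_
    · rintro ⟨⟨b, hb⟩, ⟨a, ha⟩⟩ ⟨⟨b', hb'⟩, ⟨a', ha'⟩⟩ hab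
      have hab' : b * a = b' * a' := hab
      have hb0 := hQN hb
      have hb0' := hQN hb'
      have har := (hS.1 ha).2
      have har' := (hS.1 ha').2
      have hcop : (q ^ n).Coprime r := (Nat.Coprime.pow_left n ((Nat.coprime_primes hq hr).2 hqr))
      -- raise to powers
      have h1 : b ^ r = b' ^ r := by
        have h2 := congrArg (· ^ r) hab'
        simpa [mul_pow, har, har'] using h2
      have h3 : a ^ (q ^ n) = a' ^ (q ^ n) := by
        have h2 := congrArg (· ^ (q ^ n)) hab'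
        simpa [mul_pow, hb0, hb0'] using h2
      have hne : ∀ {c : F} {m : ℕ}, m ≠ 0 → c ^ m = 1 → c ≠ 0 := by
        rintro c m hm h rfl
        rw [zero_pow hm] at h
        exact zero_ne_one h
      have hkey : ∀ {c d : F} {m k : ℕ}, m ≠ 0 → m.Coprime k → c ^ m = 1 → d ^ m = 1 → c ^ k = d ^ k → c = d := by
        intro c d m k hm hmk hc hd hcd
        have hd0 := hne hm hd
        have h4 : (c / d) ^ m = 1 := by rw [div_pow, hc, hd, div_one]
        have h5 : (c / d) ^ k = 1 := by rw [div_pow, hcd, div_self (pow_ne_zero _ hd0)]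
        have h6 : orderOf (c / d) ∣ Nat.gcd m k :=
          Nat.dvd_gcd (orderOf_dvd_of_pow_eq_one h4) (orderOf_dvd_of_pow_eq_one h5)
        rw [hmk] at h6
        have h7 : c / d = 1 := orderOf_eq_one_iff.1 (Nat.dvd_one.1 h6)
        exact (div_eq_one_iff_eq hd0).1 h7
      have hbb : b = b' := hkey (pow_ne_zero _ hq.ne_zero) hcop hb0 hb0' h1
      have haa : a = a' := hkey hr.ne_zero hcop.symm har har' h3
      subst hbb; subst haa; rfl
    · intro i
      refine ⟨End.mem_eigenspace_iff.2 ?_, (hf i).1⟩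
      rw [map_mul, End.mul_apply, (hf i).2.2, map_smul, (hf i).2.1, smul_smul, mul_comm]
  have hfr : ∀ i : Q × S, f i ∈ LinearMap.range (bc F ρ x - 1) := fun i =>
    mem_range_sub_one _ _ _ (hS.1 i.2.2).1 (hf i).2.2
  let f' : Q × S → LinearMap.range (bc F ρ x - 1) := fun i => ⟨f i, hfr i⟩
  have hli' : LinearIndependent F f' := by
    have : f = (LinearMap.range (bc F ρ x - 1)).subtype ∘ f' := rfl
    rw [this] at hli
    exact LinearIndependent.of_comp _ hli
  have hc := hli'.fintype_card_le_finrank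
  rw [Fintype.card_prod, Fintype.card_coe, Fintype.card_coe, hQcard, hScard] at hc
  refine hc.trans ?_
  have h8 : bc F ρ x - 1 = LinearMap.baseChange F (ρ x - 1) := by
    rw [LinearMap.baseChange_sub, bc_apply, ← LinearMap.baseChange_one]
    
  rw [h8]
  exact rank_bc_le (ρ x - 1)

theorem two_le {Y : Type u} [Group Y] [Finite Y] {M : Type v} [AddCommGroup M] [Module (ZMod 2) M]
    [Finite M] (ρ : Representation (ZMod 2) Y M) (P : Subgroup Y) (x z : Y) {q r : ℕ} (hq : q.Prime)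
    (hq2 : q ≠ 2) (hr : r.Prime) (hr2 : r ≠ 2) (hqr : q ≠ r) (hP : IsPGroup q P) (hxr : x ^ r = 1)
    (hxP : ∀ g ∈ P, x * g * x⁻¹ ∈ P) (hPx : ⁅P, Subgroup.zpowers x⁆ = P) (hzP : z ∈ P)
    (hzc : ∀ g ∈ P, z * g = g * z) (hzx : z * x = x * z) (hz : ρ z ≠ 1) :
    2 * (r - 1) ≤ Module.finrank (ZMod 2) (LinearMap.range (ρ x - 1)) :=
  two_le_aux (AlgebraicClosure (ZMod 2)) ρ P x z hq hq2 hr hr2 hqr hP hxr hxP hPx hzP hzc hzx hz

end Cfsg.Agent.H272.ShultTwist
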