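import Cfsg.Agent.H25.FThree
import Cfsg.Agent.SignalizersComponents.Components
import Cfsg.Agent.Lib.GenFitting
import Cfsg.Agent.Lib.PGroupCoprimeAction
import Cfsg.Agent.Lib.SylowNormalInf
import Cfsg.Agent.SolvableStructure.HallConverse

/-!
# Automorphisms of prime order centralising the invariant subgroups of odd prime power order

`x` an automorphism of prime order `r` not dividing the order of the finite group `H`.

* `layer_fixed`: if `x` centralises every `x`-invariant `s`-subgroup for all odd primes `s ≠ t`, then `x` centralises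
  the layer `E(H)`;
* `mod_two_core`: if `x` centralises every `x`-invariant `s`-subgroup for all odd primes `s`, then `[H, x] ≤ O_2(H)`.
-/

set_option autoImplicit false

namespace Cfsg.Agent.H272.ShultComp

open Subgroup Cfsg
open Cfsg.Agent.SignalizersComponents Cfsg.Agent.SignalizersComponents.Components
open Cfsg.Agent.Lib

universe u

section Basic

variable {H : Type u} [Group H] [Finite H]

theorem map_eq (x : MulAut H) {K : Subgroup H} (h : ∀ g ∈ K, x g ∈ K) : K.map (x : H →* H) = K := by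
  apply Subgroup.eq_of_le_of_card_ge
  · rintro _ ⟨g, hg, rfl⟩
    exact h g hg
  · exact (Nat.card_congr (K.equivMapOfInjective (x : H →* H) x.injective).toEquiv).le

/-- restriction of an automorphism to an invariant subgroup -/
def restr (x : MulAut H) (K : Subgroup H) (h : ∀ g ∈ K, x g ∈ K) : MulAut K :=
  (x.subgroupMap K).trans (MulEquiv.subgroupCongr (map_eq x h))

theorem restr_apply (x : MulAut H) (K : Subgroup H) (h : ∀ g ∈ K, x g ∈ K) (g : K) :
    ((restr x K h g : K) : H) = x g := rfl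

theorem restr_pow (x : MulAut H) (K : Subgroup H) (h : ∀ g ∈ K, x g ∈ K) (n : ℕ) (g : K) :
    (((restr x K h ^ n) g : K) : H) = (x ^ n) g := by
  induction n generalizing g with
  | zero => rfl
  | succ n ih =>
    rw [pow_succ, MulAut.mul_apply, ih, restr_apply, pow_succ, MulAut.mul_apply]

theorem restr_pow_eq_one (x : MulAut H) (K : Subgroup H) (h : ∀ g ∈ K, x g ∈ K) {n : ℕ} (hx : x ^ n = 1) :
    restr x K h ^ n = 1 := by
  ext g
  rw [restr_pow, hx]
  rfl

/-- the automorphism induced on the quotient by an invariant normal subgroup -/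
def quo (x : MulAut H) (N : Subgroup H) [N.Normal] (h : ∀ g ∈ N, x g ∈ N) : MulAut (H ⧸ N) :=
  QuotientGroup.congr N N x (map_eq x h)

theorem quo_mk (x : MulAut H) (N : Subgroup H) [N.Normal] (h : ∀ g ∈ N, x g ∈ N) (g : H) :
    quo x N h (g : H ⧸ N) = ((x g : H) : H ⧸ N) := rfl

theorem quo_pow (x : MulAut H) (N : Subgroup H) [N.Normal] (h : ∀ g ∈ N, x g ∈ N) (n : ℕ) (g : H) :
    (quo x N h ^ n) (g : H ⧸ N) = (((x ^ n) g : H) : H ⧸ N) := by
  induction n generalizing g with
  | zero => rfl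
  | succ n ih => rw [pow_succ, MulAut.mul_apply, quo_mk, ih, pow_succ, MulAut.mul_apply]

theorem quo_pow_eq_one (x : MulAut H) (N : Subgroup H) [N.Normal] (h : ∀ g ∈ N, x g ∈ N) {n : ℕ} (hx : x ^ n = 1) :
    quo x N h ^ n = 1 := by
  ext g
  obtain ⟨g, rfl⟩ := QuotientGroup.mk_surjective g
  rw [quo_pow, hx]
  rfl

omit [Finite H] in
theorem isPGroup_zpowers {x : MulAut H} {r : ℕ} (hx : x ^ r = 1) : IsPGroup r (zpowers x) := by
  rintro ⟨y, hy⟩
  obtain ⟨k, rfl⟩ := mem_zpowers_iff.1 hy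
  refine ⟨1, Subtype.ext ?_⟩
  change (x ^ k) ^ r ^ 1 = 1
  rw [pow_one, ← zpow_natCast, ← zpow_mul, mul_comm, zpow_mul, zpow_natCast, hx, one_zpow]

/-- an invariant Sylow subgroup -/
theorem exists_sylow {x : MulAut H} {r : ℕ} (hr : r.Prime) (hx : x ^ r = 1) (hrH : ¬ r ∣ Nat.card H) (s : ℕ)
    [Fact s.Prime] : ∃ S : Sylow s H, ∀ g ∈ (S : Subgroup H), x g ∈ (S : Subgroup H) := by
  have := Fact.mk hr
  obtain ⟨S, hS⟩ := PGroupCoprimeAction.exists_sylow_smul_eq (isPGroup_zpowers hx) hrH s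
  refine ⟨S, fun g hg => ?_⟩
  have h1 : (((⟨x, mem_zpowers x⟩ : zpowers x) • S : Sylow s H) : Subgroup H) = S := congrArg _ (hS ⟨x, mem_zpowers x⟩)
  have h2 : x g ∈ (((⟨x, mem_zpowers x⟩ : zpowers x) • S : Sylow s H) : Subgroup H) :=
    Subgroup.smul_mem_pointwise_smul g (⟨x, mem_zpowers x⟩ : zpowers x) (S : Subgroup H) hg
  exact h1.le h2

/-- an invariant Sylow subgroup of an invariant subgroup -/
theorem exists_sylow_of {x : MulAut H} {r : ℕ} (hr : r.Prime) (hx : x ^ r = 1) (hrH : ¬ r ∣ Nat.card H)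
    {K : Subgroup H} (hK : ∀ g ∈ K, x g ∈ K) (s : ℕ) [Fact s.Prime] :
    ∃ S : Sylow s K, ∀ g ∈ (S : Subgroup K).map K.subtype, x g ∈ (S : Subgroup K).map K.subtype := by
  obtain ⟨S, hS⟩ := exists_sylow hr (restr_pow_eq_one x K hK hx)
    (fun h => hrH (h.trans K.card_subgroup_dvd_card)) s
  refine ⟨S, ?_⟩
  rintro _ ⟨g, hg, rfl⟩
  exact ⟨_, hS g hg, rfl⟩

omit [Finite H] in
/-- stability of a chain -/
theorem eq_of_fixed {x : MulAut H} {r : ℕ} (hr : r.Prime) (hx : x ^ r = 1) (hrH : ¬ r ∣ Nat.card H) {g : H}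
    (h : x (g⁻¹ * x g) = g⁻¹ * x g) : x g = g := by
  have h1 : ∀ n : ℕ, (x ^ n) g = g * (g⁻¹ * x g) ^ n := by
    intro n
    induction n with
    | zero => simp
    | succ n ih =>
      rw [pow_succ', MulAut.mul_apply, ih, map_mul, map_pow, h]
      rw [pow_succ', ← mul_assoc, mul_inv_cancel_left]
  have h2 := h1 r
  rw [hx, MulAut.one_apply] at h2
  have h3 : (g⁻¹ * x g) ^ r = 1 := by
    have := congrArg (fun y => g⁻¹ * y) h2
    simpa using this.symm
  have h4 : orderOf (g⁻¹ * x g) = 1 := by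
    rcases (Nat.dvd_prime hr).1 (orderOf_dvd_of_pow_eq_one h3) with h5 | h5
    · exact h5
    · exact absurd (h5 ▸ orderOf_dvd_natCard _) hrH
  rw [orderOf_eq_one_iff, inv_mul_eq_one] at h4
  exact h4.symm

/-- an invariant subgroup of prime power order of a quotient is the image of one of the group -/
theorem quot_fixed {x : MulAut H} {r : ℕ} (hr : r.Prime) (hx : x ^ r = 1) (hrH : ¬ r ∣ Nat.card H) {s : ℕ}
    (hs : s.Prime) (N : Subgroup H) [N.Normal] (hN : ∀ g ∈ N, x g ∈ N)
    (h : ∀ S : Subgroup H, IsPGroup s S → (∀ g ∈ S, x g ∈ S) → ∀ g ∈ S, x g = g)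
    (S : Subgroup (H ⧸ N)) (hS : IsPGroup s S) (hxS : ∀ g ∈ S, quo x N hN g ∈ S) : ∀ g ∈ S, quo x N hN g = g := by
  have := Fact.mk hs
  have hK : ∀ g ∈ S.comap (QuotientGroup.mk' N), x g ∈ S.comap (QuotientGroup.mk' N) := fun g hg => hxS _ hg
  obtain ⟨T, hT⟩ := exists_sylow_of hr hx hrH hK s
  -- the map from the preimage onto `S`
  let f : S.comap (QuotientGroup.mk' N) →* S :=
    ((QuotientGroup.mk' N).comp (S.comap (QuotientGroup.mk' N)).subtype).codRestrict S fun g => g.2
  have hf : Function.Surjective f := by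
    rintro ⟨g, hg⟩
    obtain ⟨g, rfl⟩ := QuotientGroup.mk_surjective g
    exact ⟨⟨g, hg⟩, rfl⟩
  have hTf : (T : Subgroup _).map f = ⊤ := by
    have h1 : IsPGroup s (⊤ : Subgroup S) := hS.to_subgroup ⊤
    have h2 := (T.mapSurjective hf).is_maximal' h1 le_top
    exact h2.symm
  intro g hg
  have h3 : (⟨g, hg⟩ : S) ∈ (T : Subgroup _).map f := by rw [hTf]; exact mem_top _
  obtain ⟨t, ht, he⟩ := h3
  have h4 : x (t : H) = t := by
    refine h ((T : Subgroup _).map (S.comap (QuotientGroup.mk' N)).subtype) (T.2.map _) hT _ ⟨t, ht, rfl⟩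
  have h5 : ((t : H) : H ⧸ N) = g := congrArg Subtype.val he
  rw [← h5, quo_mk, h4]

end Basic

section Layer

variable {H : Type u} [Group H] [Finite H]

omit [Finite H] in
/-- an automorphism of a perfect group trivial modulo the centre is trivial -/
theorem fixed_of_central {L : Type*} [Group L] [Group.IsPerfect L] (y : MulAut L)
    (h2 : ∀ g : L, g⁻¹ * y g ∈ center L) (g : L) : y g = g := by
  let d : L →* center L :=
    { toFun := fun g => ⟨g⁻¹ * y g, h2 g⟩
      map_one' := by ext; simp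
      map_mul' := by
        intro a b
        apply Subtype.ext
        have h3 := mem_center_iff.1 (h2 a) b⁻¹
        calc (a * b)⁻¹ * y (a * b) = b⁻¹ * (a⁻¹ * y a) * y b := by rw [map_mul]; group
          _ = (a⁻¹ * y a) * (b⁻¹ * y b) := by rw [h3]; group }
  have h3 : commutator L ≤ d.ker := by
    rw [commutator_def, Subgroup.commutator_le]
    intro a _ b _
    rw [MonoidHom.mem_ker, map_commutatorElement, commutatorElement_eq_one_iff_mul_comm]
    exact Subtype.ext (mem_center_iff.1 (d b).2 (d a))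
  rw [Group.IsPerfect.commutator_eq_top] at h3
  have h4 : d g = 1 := h3 (mem_top g)
  have h5 : g⁻¹ * y g = 1 := congrArg Subtype.val h4
  exact (inv_mul_eq_one.1 h5).symm

/-- a component normalised by `x` is centralised by `x` -/
theorem fixed_of_normal {x : MulAut H} {r t : ℕ} (hr : r.Prime) (hxr : x ^ r = 1) (hrH : ¬ r ∣ Nat.card H)
    (ht : t.Prime)
    (h : ∀ s : ℕ, s.Prime → s ≠ 2 → s ≠ t → ∀ S : Subgroup H, IsPGroup s S → (∀ g ∈ S, x g ∈ S) → ∀ g ∈ S, x g = g)
    {L : Subgroup H} (hL : IsComponent L) (hLx : ∀ g ∈ L, x g ∈ L) : ∀ g ∈ L, x g = g := by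
  have hy : restr x L hLx ^ r = 1 := restr_pow_eq_one x L hLx hxr
  have hrL : ¬ r ∣ Nat.card L := fun h => hrH (h.trans L.card_subgroup_dvd_card)
  have hyL : ∀ s : ℕ, s.Prime → s ≠ 2 → s ≠ t → ∀ S : Subgroup L, IsPGroup s S →
      (∀ g ∈ S, restr x L hLx g ∈ S) → ∀ g ∈ S, restr x L hLx g = g := by
    intro s hs hs2 hst S hS hyS g hg
    apply Subtype.ext
    rw [restr_apply]
    refine h s hs hs2 hst (S.map L.subtype) (hS.map _) ?_ g ⟨g, hg, rfl⟩
    rintro _ ⟨a, ha, rfl⟩
    exact ⟨_, hyS a ha, rfl⟩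
  have hZ : ∀ g ∈ center L, restr x L hLx g ∈ center L := by
    intro g hg
    rw [mem_center_iff] at hg ⊢
    intro k
    obtain ⟨k, rfl⟩ := (restr x L hLx).surjective k
    rw [← map_mul, hg k, map_mul]
  have hsim := hL.2.2
  have hperf : Group.IsPerfect L := hL.2.1
  have h1 : quo (restr x L hLx) (center L) hZ = 1 := by
    by_contra hne
    have hna : ∃ a b : L ⧸ center L, a * b ≠ b * a := by
      by_contra hcon
      push Not at hcon
      exact Group.IsPerfect.not_isSolvable (L ⧸ center L) (Group.isSolvable_of_comm hcon)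
    obtain ⟨s, hs, hs2, hst, S, hS, hyS, g, hg, hgn⟩ := H25.FThree.exists_odd_prime hna hr ht
      (fun h => hrL (h.trans (center L).card_quotient_dvd_card)) (quo (restr x L hLx) (center L) hZ)
      (quo_pow_eq_one _ _ _ hy) hne
    exact hgn (quot_fixed hr hy hrL hs _ hZ (hyL s hs hs2 hst) S hS hyS g hg)
  have h2 : ∀ g : L, g⁻¹ * restr x L hLx g ∈ center L := by
    intro g
    have h3 := DFunLike.congr_fun h1 (g : L ⧸ center L)
    rw [quo_mk, MulAut.one_apply] at h3
    exact QuotientGroup.eq.1 h3.symm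
  intro g hg
  exact congrArg Subtype.val (fixed_of_central _ h2 ⟨g, hg⟩)

/-- `x` normalises every component -/
theorem normal_of_fixed {x : MulAut H} {r t : ℕ} (hr : r.Prime) (hxr : x ^ r = 1) (hrH : ¬ r ∣ Nat.card H)
    (h : ∀ s : ℕ, s.Prime → s ≠ 2 → s ≠ t → ∀ S : Subgroup H, IsPGroup s S → (∀ g ∈ S, x g ∈ S) → ∀ g ∈ S, x g = g)
    {L : Subgroup H} (hL : IsComponent L) : ∀ g ∈ L, x g ∈ L := by
  by_contra hLx
  have hL' : IsComponent (L.map x.toMonoidHom) := isComponent_map_equiv x hL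
  have hne : L ≠ L.map x.toMonoidHom := by
    intro he
    apply hLx
    intro g hg
    rw [he]
    exact ⟨g, hg, rfl⟩
  have hcomm : ∀ a ∈ L, ∀ b ∈ L, a * x b = x b * a := by
    intro a ha b hb
    exact (mem_centralizer_iff.1 (component_le_centralizer_of_ne hL hL' hne ha) (x b) ⟨b, hb, rfl⟩).symm
  have hE : ∀ g ∈ layer H, x g ∈ layer H := fun g hg => map_equiv_layer_le x ⟨g, hg, rfl⟩
  have hsim := hL.2.2
  have hperf : Group.IsPerfect L := hL.2.1
  have key : ∀ s : ℕ, s.Prime → s ≠ 2 → s ≠ t → ¬ s ∣ Nat.card (L ⧸ center L) := by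
    intro s hs hs2 hst hd
    have := Fact.mk hs
    obtain ⟨T, hT⟩ := exists_sylow_of hr hxr hrH hE s
    have hfix := h s hs hs2 hst ((T : Subgroup (layer H)).map (layer H).subtype) (T.2.map _) hT
    have := component_normal_in_layer hL
    apply SylowNormalInf.not_dvd_relIndex T (L.subgroupOf (layer H))
    refine hd.trans ?_
    have h1 : Nat.card (L ⧸ center L) =
        (((center L).map L.subtype).subgroupOf (layer H)).relIndex (L.subgroupOf (layer H)) := by
      rw [relIndex_subgroupOf (component_le_layer hL)]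
      rw [relIndex, subgroupOf, comap_map_eq_self_of_injective L.subtype_injective]
      rfl
    rw [h1, ← inf_relIndex_right (T : Subgroup (layer H))]
    apply relIndex_dvd_of_le_left
    rintro ⟨g, hg⟩ ⟨hgT, hgL⟩
    have h2 : x g = g := hfix g ⟨⟨g, hg⟩, hgT, rfl⟩
    refine ⟨⟨g, hgL⟩, ?_, rfl⟩
    rw [SetLike.mem_coe, mem_center_iff]
    rintro ⟨k, hk⟩
    apply Subtype.ext
    have h3 := hcomm k hk g hgL
    rw [h2] at h3
    exact h3
  have hsolv : Group.IsSolvable (L ⧸ center L) := by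
    apply SolvableStructure.HallConverse.isSolvable_of_no_three_primes
    have h4 : (Nat.card (L ⧸ center L)).primeFactors ⊆ {2, t} := by
      intro s hs
      rw [Nat.mem_primeFactors] at hs
      by_contra hcon
      simp only [Finset.mem_insert, Finset.mem_singleton, not_or] at hcon
      exact key s hs.1 hcon.1 hcon.2 hs.2.1
    exact (Finset.card_le_card h4).trans Finset.card_le_two
  exact Group.IsPerfect.not_isSolvable (L ⧸ center L) hsolv

/-- **an automorphism of prime order centralising the invariant odd subgroups centralises the layer** -/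
theorem layer_fixed (x : MulAut H) {r t : ℕ} (hr : r.Prime) (hr2 : r ≠ 2) (ht : t.Prime) (hxr : x ^ r = 1)
    (hrH : ¬ r ∣ Nat.card H)
    (h : ∀ s : ℕ, s.Prime → s ≠ 2 → s ≠ t → ∀ S : Subgroup H, IsPGroup s S → (∀ g ∈ S, x g ∈ S) → ∀ g ∈ S, x g = g) :
    ∀ g ∈ Cfsg.layer H, x g = g := by
  have key : ∀ L : Subgroup H, IsComponent L → ∀ g ∈ L, x g = g := by
    intro L hL
    by_cases hLx : ∀ g ∈ L, x g ∈ L
    · exact fixed_of_normal hr hxr hrH ht h hL hLx
    · exact absurd hLx (not_not.2 (normal_of_fixed hr hxr hrH h hL))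
  have h1 : layer H ≤ (x : H →* H).eqLocus (MonoidHom.id H) := layer_le_iff.2 fun L hL g hg => key L hL g hg
  exact fun g hg => h1 hg

/-- **an automorphism of prime order centralising the invariant subgroups of odd order acts trivially modulo `O_2`** -/
theorem mod_two_core (x : MulAut H) {r : ℕ} (hr : r.Prime) (hr2 : r ≠ 2) (hxr : x ^ r = 1) (hrH : ¬ r ∣ Nat.card H)
    (h : ∀ s : ℕ, s.Prime → s ≠ 2 → ∀ S : Subgroup H, IsPGroup s S → (∀ g ∈ S, x g ∈ S) → ∀ g ∈ S, x g = g) :
    ∀ g : H, x g * g⁻¹ ∈ Cfsg.pCore 2 H := by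
  have hN : ∀ g ∈ pCore 2 H, x g ∈ pCore 2 H := by
    intro g hg
    exact (characteristic_iff_map_le.1 (Cores.pCore_characteristic 2) x) ⟨g, hg, rfl⟩
  -- the induced automorphism of the quotient
  have hz : quo x (pCore 2 H) hN ^ r = 1 := quo_pow_eq_one _ _ _ hxr
  have hrQ : ¬ r ∣ Nat.card (H ⧸ pCore 2 H) := fun h => hrH (h.trans (pCore 2 H).card_quotient_dvd_card)
  have hq : ∀ s : ℕ, s.Prime → s ≠ 2 → ∀ S : Subgroup (H ⧸ pCore 2 H), IsPGroup s S →
      (∀ g ∈ S, quo x (pCore 2 H) hN g ∈ S) → ∀ g ∈ S, quo x (pCore 2 H) hN g = g :=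
    fun s hs hs2 => quot_fixed hr hxr hrH hs _ hN (h s hs hs2)
  suffices hz1 : ∀ g, quo x (pCore 2 H) hN g = g by
    intro g
    have h1 := hz1 (g : H ⧸ pCore 2 H)
    rw [quo_mk] at h1
    have h2 := QuotientGroup.eq.1 h1.symm
    have h3 := (pCore_normal 2 H).conj_mem _ h2 g
    have h4 : g * (g⁻¹ * x g) * g⁻¹ = x g * g⁻¹ := by group
    rwa [h4] at h3
  generalize quo x (pCore 2 H) hN = z at hz hq ⊢
  have hlay : ∀ g ∈ layer (H ⧸ pCore 2 H), z g = g :=
    layer_fixed z hr hr2 Nat.prime_two hz hrQ fun s hs hs2 _ => hq s hs hs2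
  have hfit : fittingSubgroup (H ⧸ pCore 2 H) ≤ (z : (H ⧸ pCore 2 H) →* _).eqLocus (MonoidHom.id _) := by
    rw [Cores.fittingSubgroup_eq_iSup_pCore]
    refine iSup_le fun s => ?_
    by_cases hs2 : (s : ℕ) = 2
    · rw [hs2, Cores.pCore_quotient_pCore]
      exact bot_le
    · exact fun g hg => hq s s.2 hs2 _ (Cores.pCore_isPGroup _)
        (fun a ha => (characteristic_iff_map_le.1 (Cores.pCore_characteristic (s : ℕ)) z) ⟨a, ha, rfl⟩) g hg
  have hF : ∀ g ∈ generalizedFittingSubgroup (H ⧸ pCore 2 H), z g = g := by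
    have h1 : generalizedFittingSubgroup (H ⧸ pCore 2 H) ≤
        (z : (H ⧸ pCore 2 H) →* _).eqLocus (MonoidHom.id _) := by
      rw [GenFitting.genFitting_def]
      exact sup_le hlay hfit
    exact fun g hg => h1 hg
  have hz1 : ∀ g, z g = g := by
    intro g
    refine eq_of_fixed hr hz hrQ (hF _ ?_)
    apply GenFitting.centralizer_genFitting_le
    rw [mem_centralizer_iff]
    intro f hf
    have hn := GenFitting.genFitting_normal (G := H ⧸ pCore 2 H)
    have h1 := hF _ (hn.conj_mem f hf g)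
    rw [map_mul, map_mul, hF f hf, map_inv] at h1
    -- `z g * f * (z g)⁻¹ = g * f * g⁻¹`
    have h2 : f * (g⁻¹ * z g) = g⁻¹ * (g * f * g⁻¹) * z g := by group
    rw [h2, ← h1]
    group
  exact hz1

end Layer

end Cfsg.Agent.H272.ShultComp
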