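import Cfsg.Agent.H685.AcdMain
import Cfsg.Agent.Characters.GaloisIrr
import Cfsg.Agent.S0144

/-!
# Galois conjugates of a character of degree three of a simple group (helper272, for S4831)
-/

set_option autoImplicit false

namespace Cfsg.Agent.H272.Gal3

open Cfsg Cfsg.Agent.Characters

universe u

/-- sum of the powers of an `r`-th root of unity -/
theorem sum_pow {r : ℕ} {z : ℂ} (hz : z ^ r = 1) : ∑ k ∈ Finset.range r, z ^ k = if z = 1 then (r : ℂ) else 0 := by
  split_ifs with h
  · simp [h]
  · have h1 := mul_geom_sum z r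
    rw [hz, sub_self] at h1
    exact (mul_eq_zero.1 h1).resolve_left (sub_ne_zero.2 h)

/-- A rational value of a character of degree three at an element of prime order `r ≥ 5` is three. -/
theorem value_eq {G : Type u} [Group G] [Finite G] {χ : G → ℂ} (hχ : IsCharacter G χ) (h3 : χ 1 = 3) {r : ℕ}
    (hr : r.Prime) (hr5 : 5 ≤ r) {x : G} (hx : x ^ r = 1) (hfix : ∀ σ : ℂ ≃+* ℂ, σ (χ x) = χ x) : χ x = χ 1 := by
  classical
  obtain ⟨d, μ, hd, hμ, hpow⟩ := GaloisBasic.isCharacter_exists_fin_pow hχ x hr.ne_zero hx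
  have hd3 : d = 3 := by
    rw [h3] at hd
    exact_mod_cast hd.symm
  subst hd3
  -- the value is an integer
  obtain ⟨c, hc⟩ := GaloisBasic.exists_int_of_isIntegral (GaloisBasic.isIntegral_apply hχ x)
    (GaloisBasic.exists_rat_of_forall_ringEquiv ((GaloisBasic.isIntegral_apply hχ x).tower_top) hfix)
  have hk : ∀ k ∈ Finset.range r, χ (x ^ k) = if k = 0 then (3 : ℂ) else c := by
    intro k hk
    split_ifs with h0
    · rw [h0, pow_zero, h3]
    · have hcop : k.Coprime r := by
        rw [Nat.coprime_comm, Nat.Prime.coprime_iff_not_dvd hr]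
        intro h
        have := Nat.le_of_dvd (Nat.pos_of_ne_zero h0) h
        have := Finset.mem_range.1 hk
        omega
      obtain ⟨σ, hσ⟩ := GaloisBasic.exists_ringEquiv_pow hr.ne_zero hcop
      have h1 := GaloisBasic.map_apply (σ : ℂ →+* ℂ) hσ hχ hr.ne_zero hx
      rw [← h1, ← hc]
      exact hfix σ
  have hsum : ∑ k ∈ Finset.range r, χ (x ^ k) = 3 + ((r : ℂ) - 1) * c := by
    rw [Finset.sum_congr rfl hk, Finset.sum_ite, Finset.sum_const, Finset.sum_const]
    have h1 : (Finset.range r).filter (fun k => k = 0) = {0} := by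
      ext k
      simp only [Finset.mem_filter, Finset.mem_range, Finset.mem_singleton]
      exact ⟨fun h => h.2, fun h => ⟨by omega, h⟩⟩
    have h2 : ((Finset.range r).filter (fun k => ¬ k = 0)).card = r - 1 := by
      have := Finset.card_filter_add_card_filter_not (s := Finset.range r) (fun k => k = 0)
      rw [h1, Finset.card_singleton, Finset.card_range] at this
      omega
    rw [h1, h2, Finset.card_singleton, one_smul, nsmul_eq_mul, Nat.cast_sub (by omega), Nat.cast_one]
  have hsum2 : ∑ k ∈ Finset.range r, χ (x ^ k) = ((Finset.univ.filter fun i : Fin 3 => μ i = 1).card : ℂ) * r := by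
    rw [Finset.sum_congr rfl fun k _ => hpow k, Finset.sum_comm, Finset.sum_congr rfl fun i _ => sum_pow (hμ i),
      Finset.sum_ite, Finset.sum_const, Finset.sum_const_zero, add_zero, nsmul_eq_mul]
  set a := (Finset.univ.filter fun i : Fin 3 => μ i = 1).card with ha
  have ha3 : a ≤ 3 := (Finset.card_le_univ _).trans (by simp)
  have heq : (3 : ℤ) + ((r : ℤ) - 1) * c = a * r := by
    have := hsum.symm.trans hsum2
    exact_mod_cast this
  have ha' : a = 3 := by
    have h1 : ((r : ℤ) - 1) * (c - a) = a - 3 := by linear_combination heq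
    have h2 : ((r : ℤ) - 1) ∣ (a : ℤ) - 3 := Dvd.intro _ h1
    have h3 : (a : ℤ) - 3 = 0 := by
      apply Int.eq_zero_of_abs_lt_dvd h2
      rw [abs_lt]
      constructor <;> omega
    omega
  have hc3 : c = 3 := by
    rw [ha'] at heq
    have h1 : ((r : ℤ) - 1) * (c - 3) = 0 := by
      push_cast at heq
      linear_combination heq
    rcases mul_eq_zero.1 h1 with h | h
    · omega
    · omega
  rw [hc, hc3, h3]
  norm_num

/-- **Degree three.** -/
theorem exists_galois_three {S : Type u} [Group S] [Finite S] [IsSimpleGroup S] (hS : ¬ IsMulCommutative S)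
    (α : Cfsg.IrrCharacter S) (h3 : Cfsg.charDegree (α : S → ℂ) = 3) :
    ∃ α' : Cfsg.IrrCharacter S, Cfsg.charDegree (α' : S → ℂ) = 3 ∧ α' ≠ α ∧
      ∀ s s' : S, (α : S → ℂ) s = (α : S → ℂ) s' → (α' : S → ℂ) s = (α' : S → ℂ) s' := by
  classical
  have hχ := Core.isIrr_isCharacter α.2
  have hone : (α : S → ℂ) 1 = 3 := by
    rw [Cfsg.Agent.Blocks.Basic.irr_one_eq_charDegree α.2, h3]
    norm_num
  obtain ⟨r, hr, hr5, hrS⟩ : ∃ r : ℕ, r.Prime ∧ 5 ≤ r ∧ r ∣ Nat.card S := by
    by_contra hcon
    push Not at hcon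
    have h1 : Group.IsSolvable S := by
      refine S0144.result 2 3 ((Nat.card S).factorization 2) ((Nat.card S).factorization 3) Nat.prime_two
        Nat.prime_three ?_
      have h0 : Nat.card S ≠ 0 := Nat.card_pos.ne'
      conv_lhs => rw [← Nat.prod_factorization_pow_eq_self h0]
      have h2 : (Nat.card S).factorization.support ⊆ {2, 3} := by
        intro p hp
        rw [Nat.support_factorization, Nat.mem_primeFactors] at hp
        have h5 : ¬ 5 ≤ p := fun h => hcon p hp.1 h hp.2.1
        have := hp.1.two_le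
        have h4 : p ≠ 4 := by
          rintro rfl
          exact absurd hp.1 (by norm_num)
        simp only [Finset.mem_insert, Finset.mem_singleton]
        omega
      rw [Finsupp.prod_of_support_subset _ h2 _ (fun i _ => pow_zero i), Finset.prod_pair (by norm_num)]
    exact hS ⟨⟨IsSimpleGroup.comm_iff_isSolvable.2 h1⟩⟩
  have := Fact.mk hr
  obtain ⟨x, hx⟩ := exists_prime_orderOf_dvd_card' r hrS
  have hx1 : x ≠ 1 := by
    rintro rfl
    rw [orderOf_one] at hx
    exact hr.one_lt.ne hx
  obtain ⟨σ, hσ⟩ : ∃ σ : ℂ ≃+* ℂ, σ ((α : S → ℂ) x) ≠ (α : S → ℂ) x := by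
    by_contra hcon
    push Not at hcon
    have h1 := value_eq hχ hone hr hr5 (by rw [← hx, pow_orderOf_eq_one]) hcon
    -- the kernel is a normal subgroup
    have h2 : ∀ s, (α : S → ℂ) s = (α : S → ℂ) 1 := by
      obtain ⟨m, ρ, hρ⟩ := hχ
      rw [← hρ, Representation.char_one] at h1
      have hx' : x ∈ ρ.ker := (Values.character_eq_finrank_iff ρ x).1 h1
      have htop : ρ.ker = ⊤ := by
        rcases IsSimpleGroup.eq_bot_or_eq_top_of_normal ρ.ker inferInstance with h | h
        · rw [h, Subgroup.mem_bot] at hx'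
          exact absurd hx' hx1
        · exact h
      intro s
      have hs : s ∈ ρ.ker := by
        rw [htop]
        trivial
      rw [← hρ, Representation.char_one]
      exact (Values.character_eq_finrank_iff ρ s).2 hs
    have h4 := H685.Acd.charDegree_eq_one_of_ker α.2 h2
    omega
  refine ⟨⟨fun g => σ ((α : S → ℂ) g), GaloisIrr.isIrr_map σ α.2⟩, ?_, ?_, ?_⟩
  · show charDegree (fun g => σ ((α : S → ℂ) g)) = 3
    have h1 : σ ((α : S → ℂ) 1) = ((3 : ℕ) : ℂ) := by
      rw [hone, map_ofNat]
      norm_num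
    have h2 := Cfsg.Agent.Blocks.Basic.irr_one_eq_charDegree (GaloisIrr.isIrr_map σ α.2)
    have h5 := h1.symm.trans h2
    exact_mod_cast h5.symm
  · intro h
    exact hσ (congrFun (congrArg Subtype.val h) x)
  · intro s s' h
    exact congrArg σ h

end Cfsg.Agent.H272.Gal3
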