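import Cfsg.Agent.H404.Avg.Good
import Cfsg.Agent.H352.OutIdx
import Cfsg.Agent.H679.OutIdxExc
import Cfsg.Agent.H446.OutIdxB
import Cfsg.Agent.H446.GoodPsl
import Cfsg.Agent.H597.PsuGood
import Cfsg.Agent.H211.Avg.OPlus
import Cfsg.Agent.H954.OutLinB
import Cfsg.Agent.H685.AcdMain
import Cfsg.Agent.H208.AvgE6
import Cfsg.Agent.H53.HC.ExcIM
import Cfsg.Agent.S0254

/-!
# `Good p S` for every known simple group, `p ≥ 5` (helper272, for S4831)
-/

set_option autoImplicit false

namespace Cfsg.Agent.H272.GoodAll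

open Cfsg Cfsg.Agent.H404.Avg Cfsg.Agent.H954.OutLinB Cfsg.Agent.H934.OutB

universe u v

variable {G : Type u} [Group G]

open Cfsg.Agent.H53.HC Cfsg.Agent.H53.HC.ExcRows Cfsg.Agent.H53.HC.ExcIM Cfsg.Agent.H35.ExcIdx Cfsg.Lie in
/-- the big character of `E6` -/
theorem big_E6 (F : Type) [Field F] [Fintype F] (r : ℕ) [CharP F r] :
    Cfsg.Agent.H53.HC.Big r ↥(Lie.chevE6.group F) := by
  obtain ⟨f, hr, hF⟩ := FiniteField.card F r
  have hf := f.ne_zero
  have := finite_group (K := F) chevE6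
  have D := data_E6_3 hr hf hF
  have hB : BigF r (r ^ (f : ℕ)) ↥(chevE6.group F) := ExcRows.big_E6 hr hf hF (in_A2 D (by decide +kernel) rfl)
    (in_pair D (by decide +kernel)) (in_node D 1 3 (by decide +kernel))
  exact hB.big

/-- The row `E6`. -/
theorem good_e6 {S : Type u} [Group S] [Finite S] [IsSimpleGroup S] (hna : ¬ IsMulCommutative S)
    (h : Cfsg.Lie.IsoChevE6 S) {p : ℕ} (hp : p.Prime) (hd : p ∣ Nat.card S) : Good p S :=
  Cfsg.Agent.H208.AvgE6.good_e6_of hna h (fun F _ _ r _ => big_E6 F r) hp hd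

/-- Transport of a character of degree divisible by `p`. -/
theorem im_congr {X : Type v} [Group X] (e : G ≃* X) {p : ℕ}
    (h : ∃ χ : IrrCharacter G, p ∣ charDegree (χ : G → ℂ)) : ∃ χ : IrrCharacter X, p ∣ charDegree (χ : X → ℂ) := by
  obtain ⟨χ, hχ⟩ := h
  refine ⟨⟨(χ : G → ℂ) ∘ e.symm, Cfsg.Agent.Characters.Core.isIrr_comp e.symm.toMonoidHom e.symm.surjective χ.2⟩, ?_⟩
  have h1 := Cfsg.Agent.Blocks.Basic.irr_one_eq_charDegree χ.2
  have h2 := Cfsg.Agent.Blocks.Basic.irr_one_eq_charDegree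
    (Cfsg.Agent.Characters.Core.isIrr_comp e.symm.toMonoidHom e.symm.surjective χ.2)
  have h3 : charDegree ((χ : G → ℂ) ∘ e.symm) = charDegree (χ : G → ℂ) := by
    have h4 : ((charDegree ((χ : G → ℂ) ∘ e.symm) : ℕ) : ℂ) = (charDegree (χ : G → ℂ) : ℕ) := by
      rw [← h1]
      refine h2.symm.trans ?_
      simp
    exact_mod_cast h4
  show p ∣ charDegree ((χ : G → ℂ) ∘ e.symm)
  rw [h3]
  exact hχ

/-- Groups with an outer automorphism group of order at most fifteen. -/
theorem small [Finite G] [IsSimpleGroup G] (hna : ¬ IsMulCommutative G) {p : ℕ} (hp : p.Prime)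
    (hIM : ∃ χ : IrrCharacter G, p ∣ charDegree (χ : G → ℂ)) (hOL : OutLin G) {X : Type v} [Group X]
    (h : Nat.card (Cfsg.Out X) ≤ 15) (e : Nonempty (G ≃* X)) : Good p G := by
  obtain ⟨e⟩ := e
  refine good_of_im hna hp hIM hOL (Or.inr ?_)
  rwa [card_out_congr e]

theorem good_alternating [Finite G] [IsSimpleGroup G] (hna : ¬ IsMulCommutative G) {p : ℕ} (hp : p.Prime)
    (hIM : ∃ χ : IrrCharacter G, p ∣ charDegree (χ : G → ℂ)) (hOL : OutLin G) (h : Cfsg.IsAlternating G) :
    Good p G := by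
  obtain ⟨n, hn, ⟨e⟩⟩ := h
  rcases eq_or_ne n 6 with rfl | h6
  · have : Fact (Nat.Prime 3) := ⟨by norm_num⟩
    have : Fintype (GaloisField 3 2) := Fintype.ofFinite _
    have hF : Fintype.card (GaloisField 3 2) = 9 := by
      rw [← Nat.card_eq_fintype_card, GaloisField.card 3 2 (by norm_num)]
      norm_num
    obtain ⟨e'⟩ := Cfsg.Agent.S0254.result hF
    have h1 := Cfsg.Agent.H352.OutIdx.idx_psl_two (F := GaloisField 3 2) (by rw [hF]; norm_num)
    exact good_of_im hna hp hIM hOL (Or.inl ((Cfsg.Agent.H352.OutIdx.mono h1 (by norm_num)).congr (e.trans e'.symm).symm))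
  · have := simple_of e
    have hna' := not_comm_of hna e
    have : Nontrivial (Fin n) := Fin.nontrivial_iff_two_le.2 (by omega)
    refine small hna hp hIM hOL ?_ ⟨e⟩
    have h2 := card_out_of_aut hna' (n := 2) (by
      have h1 := Nat.card_congr (Equiv.ofBijective _ (Cfsg.Agent.S2119.result n (by omega) h6))
      rw [← h1, Nat.card_eq_fintype_card, Nat.card_eq_fintype_card, two_mul_card_alternatingGroup])
    omega

theorem good_tits [Finite G] [IsSimpleGroup G] (hna : ¬ IsMulCommutative G) {p : ℕ} (hp : p.Prime)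
    (hIM : ∃ χ : IrrCharacter G, p ∣ charDegree (χ : G → ℂ)) (hOL : OutLin G) (h : Cfsg.Lie.IsoTits G) :
    Good p G := by
  obtain ⟨e⟩ := h
  obtain ⟨e'⟩ := Cfsg.Agent.TitsK.exists_equiv
  have hfin : Finite Cfsg.Agent.FourTwo.Base.LL := by infer_instance
  have h1 : Nat.card (Cfsg.Out ↥Cfsg.Agent.TitsK.TT) ∣ 2 := Cfsg.Agent.TitsK.tdata.index_inn
  exact small hna hp hIM hOL ((Nat.le_of_dvd (by norm_num) h1).trans (by norm_num)) ⟨e.trans e'⟩

theorem good_sporadic [Finite G] [IsSimpleGroup G] (hna : ¬ IsMulCommutative G) {p : ℕ} (hp : p.Prime)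
    (hIM : ∃ χ : IrrCharacter G, p ∣ charDegree (χ : G → ℂ)) (hOL : OutLin G) (h : Cfsg.IsSporadicGroup G) :
    Good p G := by
  rcases h with h | h | h | h | h | h | h | h | h | h | h | h | h | h | h | h | h | h | h | h | h | h | h | h | h | h
  · exact small hna hp hIM hOL (le_of_eq_of_le (Cfsg.Agent.S2060.result) (by norm_num)) h
  · exact small hna hp hIM hOL (le_of_eq_of_le (Cfsg.Agent.S2061.result) (by norm_num)) h
  · exact small hna hp hIM hOL (le_of_eq_of_le (Cfsg.Agent.S2062.result) (by norm_num)) h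
  · exact small hna hp hIM hOL (le_of_eq_of_le (Cfsg.Agent.S2063.result) (by norm_num)) h
  · exact small hna hp hIM hOL (le_of_eq_of_le (Cfsg.Agent.S2064.result) (by norm_num)) h
  · exact small hna hp hIM hOL (le_of_eq_of_le (Cfsg.Agent.S2065.result) (by norm_num)) h
  · exact small hna hp hIM hOL (le_of_eq_of_le (Cfsg.Agent.S2066.result) (by norm_num)) h
  · obtain ⟨F, _, _, ω, hF, hω, e⟩ := h
    exact small hna hp hIM hOL (le_of_eq_of_le (Cfsg.Agent.S2067.result hF ω hω) (by norm_num)) e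
  · exact small hna hp hIM hOL (le_of_eq_of_le (Cfsg.Agent.S2068.result) (by norm_num)) h
  · exact small hna hp hIM hOL (le_of_eq_of_le (Cfsg.Agent.S2069.result) (by norm_num)) h
  · exact small hna hp hIM hOL (le_of_eq_of_le (Cfsg.Agent.S2070.result) (by norm_num)) h
  · exact small hna hp hIM hOL (le_of_eq_of_le (Cfsg.Agent.S2071.result) (by norm_num)) h
  · exact small hna hp hIM hOL (le_of_eq_of_le (Cfsg.Agent.S2073.result) (by norm_num)) h
  · exact small hna hp hIM hOL (le_of_eq_of_le (Cfsg.Agent.S2072.result) (by norm_num)) h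
  · exact small hna hp hIM hOL (le_of_eq_of_le (Cfsg.Agent.S2074.result) (by norm_num)) h
  · exact small hna hp hIM hOL (le_of_eq_of_le (Cfsg.Agent.S2075.result) (by norm_num)) h
  · exact small hna hp hIM hOL (le_of_eq_of_le (Cfsg.Agent.S2077.result) (by norm_num)) h
  · exact small hna hp hIM hOL (le_of_eq_of_le (Cfsg.Agent.S2078.result) (by norm_num)) h
  · exact small hna hp hIM hOL (le_of_eq_of_le (Cfsg.Agent.S2076.result) (by norm_num)) h
  · exact small hna hp hIM hOL (le_of_eq_of_le (Cfsg.Agent.S2079.result) (by norm_num)) h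
  · exact small hna hp hIM hOL (le_of_eq_of_le (Cfsg.Agent.S2080.result) (by norm_num)) h
  · exact small hna hp hIM hOL (le_of_eq_of_le (Cfsg.Agent.S2081.result) (by norm_num)) h
  · exact small hna hp hIM hOL (le_of_eq_of_le (Cfsg.Agent.S2082.result) (by norm_num)) h
  · exact small hna hp hIM hOL (le_of_eq_of_le (Cfsg.Agent.S2083.result) (by norm_num)) h
  · exact small hna hp hIM hOL (le_of_eq_of_le (Cfsg.Agent.S2084.result) (by norm_num)) h
  · exact small hna hp hIM hOL (le_of_eq_of_le (Cfsg.Agent.S2085.result) (by norm_num)) h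

/-- **`Good p S`** for every known simple group. -/
theorem good_all {p : ℕ} (hp : p.Prime) (h5 : 5 ≤ p) (hIM' : Cfsg.Agent.H685.Acd.IMp.{u} p)
    (hOL' : ∀ (S : Type u) [Group S] [Finite S] [IsSimpleGroup S], ¬ IsMulCommutative S → OutLin S)
    (hK : ∀ (X : Type u) [Group X] [Finite X] [IsSimpleGroup X], Cfsg.IsKnownSimple' X)
    (S : Type u) [Group S] [Finite S] [IsSimpleGroup S] (hna : ¬ IsMulCommutative S) (hd : p ∣ Nat.card S) :
    Good p S := by
  have hIM := hIM' S hna hd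
  have hOL := hOL' S hna
  have idx : ∀ {c : ℕ}, OutIdx S c → c ≤ 3 → Good p S := fun h hc =>
    good_of_im hna hp hIM hOL (Or.inl (Cfsg.Agent.H352.OutIdx.mono h hc))
  rcases hK S with h | h | h | h | h | h | h | h | h | h
  · exfalso
    apply hna
    have : Fact (Nat.card S).Prime := ⟨h⟩
    have : IsCyclic S := isCyclic_of_prime_card rfl
    infer_instance
  · exact good_alternating hna hp hIM hOL h
  · obtain ⟨F, _, _, n, hn, h4, ⟨e⟩⟩ := h
    have := simple_of e
    have hna' := not_comm_of hna e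
    rcases Nat.lt_or_ge n 3 with h3 | h3
    · obtain rfl : n = 2 := by omega
      exact idx ((Cfsg.Agent.H352.OutIdx.idx_psl_two (h4 rfl)).congr e.symm) (by norm_num)
    · exact (Cfsg.Agent.H446.GoodPsl.good_psl h3 hna' hp h5 (by rwa [← Nat.card_congr e.toEquiv])
        (hOL.congr e)).congr e.symm
  · obtain ⟨F, _, _, m, hm, h3, ⟨e⟩⟩ := h
    exact idx ((Cfsg.Agent.H352.OutIdx.idx_psp hm h3 (simple_of e) (not_comm_of hna e)).congr e.symm) (by norm_num)
  · obtain ⟨F, _, _, n, q, hF, hn, h32, ⟨e⟩⟩ := h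
    have := simple_of e
    have hna' := not_comm_of hna e
    rcases Nat.lt_or_ge n 4 with h4 | h4
    · obtain rfl : n = 3 := by omega
      have hq : 2 < q := by
        have h1 : 1 < Fintype.card F := Fintype.one_lt_card
        rw [hF] at h1
        have h2 : q ≠ 0 := by
          rintro rfl
          norm_num at h1
        have h3 : q ≠ 1 := by
          rintro rfl
          norm_num at h1
        have h5 : q ≠ 2 := fun h => h32 ⟨rfl, h⟩
        omega
      exact idx ((Cfsg.Agent.H352.OutIdx.idx_psu_three hF hq).congr e.symm) (by norm_num)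
    · have hd' : p ∣ Nat.card (Cfsg.PSU n F q) := by rwa [← Nat.card_congr e.toEquiv]
      have : Finite (Cfsg.PSU n F q) := Finite.of_equiv _ e.toEquiv
      exact (Cfsg.Agent.H597.PsuGood.good_psu hF h4 hna' hp h5 hd' (im_congr e hIM) (hOL.congr e)).congr e.symm
  · obtain ⟨F, _, _, m, hm, ho, ⟨e⟩⟩ := h
    exact idx ((Cfsg.Agent.H352.OutIdx.idx_omega_odd hm ho).congr e.symm) (by norm_num)
  · obtain ⟨F, _, _, m, hm, ⟨e⟩⟩ := h
    have := simple_of e
    exact (Cfsg.Agent.H211.Avg.good_omega_plus' hm (not_comm_of hna e) hp h5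
      (by rwa [← Nat.card_congr e.toEquiv])).congr e.symm
  · obtain ⟨F, _, _, m, a, b, hm, hab, ⟨e⟩⟩ := h
    exact idx ((Cfsg.Agent.H352.OutIdx.idx_omega_minus hm a b hab).congr e.symm) (by norm_num)
  · rcases h with h | h | h | h | h | h | h | h | h | h | h
    · exact idx (Cfsg.Agent.H679.OutIdxExc.idx_g2 h) (by norm_num)
    · exact idx (Cfsg.Agent.H679.OutIdxExc.idx_f4 h) (by norm_num)
    · exact good_e6 hna h hp hd
    · exact idx (Cfsg.Agent.H679.OutIdxExc.idx_e7 h) (by norm_num)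
    · exact idx (Cfsg.Agent.H679.OutIdxExc.idx_e8 h) (by norm_num)
    · exact idx (Cfsg.Agent.H679.OutIdxExc.idx_2e6 h) (by norm_num)
    · exact idx (Cfsg.Agent.H446.OutIdxB.idx_3d4 h) (by norm_num)
    · exact idx (Cfsg.Agent.H446.OutIdxB.idx_sz h) (by norm_num)
    · exact idx (Cfsg.Agent.H446.OutIdxB.idx_ree h) (by norm_num)
    · exact idx (Cfsg.Agent.H446.OutIdxB.idx_2f4 h) (by norm_num)
    · exact good_tits hna hp hIM hOL h
  · exact good_sporadic hna hp hIM hOL h

end Cfsg.Agent.H272.GoodAll
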