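import Cfsg.Agent.H272.NFUBase
import Cfsg.Agent.Schreier.PSU
import Cfsg.Agent.S0279

/-!
# S5773, the rows `PSU n q`, `n ≥ 4`: the group (helper272)

`conj_inj`, `outN_psu`, `fac_psu`: the group `PSU n F q`, its outer automorphism group and its order.
`nf_of_pair`: the criterion with two primes.
`bd_full`, `bd_aniso`, `bd_witt`: bounds for solvable subgroups from the interface lemmas.
-/

set_option autoImplicit false
set_option linter.unusedSectionVars false

namespace Cfsg.Agent.H272.NFU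

open Module Cfsg Cfsg.Agent.LieClassical.HermBasic Cfsg.Agent.H518.Dghp Cfsg.Agent.H518.DghpMat
  Cfsg.Agent.H518.DghpFix Cfsg.Agent.H176.NF
open Cfsg.Agent.ClassicalGeometry.PSUAutCount
open Cfsg.Agent.ClassicalGeometry.UnitAutBasic (pr pr_surjective)

variable {F : Type} [Field F] [Fintype F] {n q : ℕ}

def toGU (g : SU n F q) : Cfsg.GU n F q := ⟨Matrix.SpecialLinearGroup.toGL g.1, g.2⟩

theorem conj_pr (g : SU n F q) : MulAut.conj (pr n F q g) = toAut (toGU g) 1 :=
  (Schreier.PSU.f₁_eq_conj (toGU g) g rfl).symm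

theorem conj_inj (hF : Fintype.card F = q ^ 2) (hn : 3 ≤ n) :
    Function.Injective (MulAut.conj : PSU n F q →* MulAut (PSU n F q)) := by
  rw [injective_iff_map_eq_one]
  intro x hx
  obtain ⟨g, rfl⟩ := pr_surjective x
  have h1 : (toAut (1 : Cfsg.GU n F q) 1 : MulAut (PSU n F q)) = 1 :=
    map_one (Schreier.PSU.f₂ (F := F) (q := q) (n := n))
  rw [conj_pr, ← h1] at hx
  obtain ⟨-, c, -, hc⟩ := eq_of_toAut_eq hF hn hx.symm
  have h2 : gm (toGU g) = LieClassical.HermSiegel.mat g := rfl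
  rw [h2, gm_one] at hc
  refine (QuotientGroup.eq_one_iff _).2 (Subgroup.mem_center_iff.2 fun y => ?_)
  apply LieClassical.HermSiegel.mat_injective
  rw [LieClassical.HermSiegel.mat_mul, LieClassical.HermSiegel.mat_mul, hc, Matrix.mul_smul, Matrix.smul_mul,
    Matrix.mul_one, Matrix.one_mul]

theorem outN_psu (hF : Fintype.card F = q ^ 2) (hn : 3 ≤ n) (h32 : ¬ (n = 3 ∧ q = 2)) {p f : ℕ} (hp : p.Prime)
    (hf : 1 ≤ f) (hq : q = p ^ f) : outN (PSU n F q) = Nat.gcd n (q + 1) * (2 * f) := by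
  have h1 := card_mulAut_of hF hn hp hf hq (ClassicalGeometry.PSUAutMain.exists_toAut hF hn h32)
  have h2 := Subgroup.card_mul_index (MulAut.conj : PSU n F q →* MulAut (PSU n F q)).range
  have h3 : Nat.card (MulAut.conj : PSU n F q →* MulAut (PSU n F q)).range = Nat.card (PSU n F q) :=
    (Nat.card_congr (MonoidHom.ofInjective (conj_inj hF hn)).toEquiv).symm
  rw [h1, h3, mul_comm] at h2
  exact Nat.eq_of_mul_eq_mul_right Nat.card_pos h2

theorem card_psu (hF : Fintype.card F = q ^ 2) (hn : 3 ≤ n) :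
    Nat.card (PSU n F q) * Nat.gcd n (q + 1) = Nat.card (SU n F q) := by
  rw [← S0279.result hF n hn]
  exact (Subgroup.card_eq_card_quotient_mul_card_subgroup _).symm

theorem fac_mul {a b p : ℕ} (ha : a ≠ 0) (hb : b ≠ 0) :
    (a * b).factorization p = a.factorization p + b.factorization p := by
  rw [Nat.factorization_mul ha hb, Finsupp.add_apply]

/-- The `p`-part of `|PSU_n(q)|`. -/
theorem fac_psu (hF : Fintype.card F = q ^ 2) (hn : 3 ≤ n) {p f : ℕ} (hp : p.Prime) (hf : 1 ≤ f) (hq : q = p ^ f) :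
    (Nat.card (PSU n F q)).factorization p = f * (n * (n - 1) / 2) := by
  have hq1 : 1 < q := one_lt_of_sq hF
  have hpq : p ∣ q := hq ▸ dvd_pow_self p (by omega)
  have h1 := card_psu hF hn
  have h2 : (Nat.card (PSU n F q)).factorization p = (Nat.card (SU n F q)).factorization p := by
    rw [← h1, fac_mul Nat.card_pos.ne' (Nat.gcd_pos_of_pos_left _ (by omega)).ne']
    have : (Nat.gcd n (q + 1)).factorization p = 0 := by
      refine Nat.factorization_eq_zero_of_not_dvd fun h => ?_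
      have h3 := h.trans (Nat.gcd_dvd_right _ _)
      exact hp.one_lt.ne' (Nat.dvd_one.1 ((Nat.dvd_add_right hpq).1 h3))
    omega
  rw [h2]
  obtain ⟨m, rfl⟩ : ∃ m, n = m + 1 := ⟨n - 1, by omega⟩
  rw [card_SU_succ hF]
  have hne : ∀ i, ¬ p ∣ (if Even (i + 1) then q ^ (i + 1 + 1) + 1 else q ^ (i + 1 + 1) - 1) := by
    intro i
    have hpi : p ∣ q ^ (i + 1 + 1) := hpq.trans (dvd_pow_self q (by omega))
    split_ifs
    · intro h
      exact hp.one_lt.ne' (Nat.dvd_one.1 ((Nat.dvd_add_right hpi).1 h))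
    · intro h
      have h3 : 1 ≤ q ^ (i + 1 + 1) := Nat.one_le_pow _ _ (by omega)
      have h4 := Nat.dvd_sub hpi h
      rw [Nat.sub_sub_self h3] at h4
      exact hp.one_lt.ne' (Nat.dvd_one.1 h4)
  have hprod : ¬ p ∣ ∏ i ∈ Finset.range m, (if Even (i + 1) then q ^ (i + 1 + 1) + 1 else q ^ (i + 1 + 1) - 1) := by
    intro h
    obtain ⟨i, -, hi⟩ := (hp.prime.dvd_finsetProd_iff _).1 h
    exact hne i hi
  rw [fac_mul (pow_ne_zero _ (by omega)) (fun h => hprod (by rw [h]; exact dvd_zero p)),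
    Nat.factorization_eq_zero_of_not_dvd hprod, add_zero, hq, ← pow_mul, Nat.Prime.factorization_pow hp,
    Finsupp.single_eq_same, Nat.add_sub_cancel]

/-- **The criterion with two primes.** -/
theorem nf_of_pair (hF : Fintype.card F = q ^ 2) (hn : 3 ≤ n) (h32 : ¬ (n = 3 ∧ q = 2)) {p f : ℕ} (hp : p.Prime)
    (hf : 1 ≤ f) (hq : q = p ^ f) {r s l a b : ℕ} (hr : r.Prime) (hs : s.Prime)
    (hrT : r ∣ Nat.card (SU n F q)) (hsT : s ∣ Nat.card (SU n F q)) (hrq : ¬ r ∣ q + 1) (hsq : ¬ s ∣ q + 1)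
    (hrf : ¬ r ∣ 2 * f) (hsf : ¬ s ∣ 2 * f) (hsep : Sep (SU n F q) r s) (hra : Bd (SU n F q) r l a)
    (hsb : Bd (SU n F q) s l b)
    (hlt : a + b + (Nat.gcd n (q + 1) * (2 * f)).factorization l < (Nat.card (PSU n F q)).factorization l) :
    NF (PSU n F q) := by
  have hfin : Finite (PSU n F q) := Quotient.finite _
  have hcen : Nat.card (Subgroup.center (SU n F q)) = Nat.gcd n (q + 1) := S0279.result hF n hn
  have hZ : Group.IsSolvable (Subgroup.center (SU n F q)) :=
    Group.isSolvable_of_comm fun a b => Subtype.ext ((Subgroup.mem_center_iff.1 b.2) a)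
  have key : ∀ t : ℕ, t.Prime → t ∣ Nat.card (SU n F q) → ¬ t ∣ q + 1 → ¬ t ∣ 2 * f →
      t ∣ Nat.card (PSU n F q) ∧ ¬ t ∣ outN (PSU n F q) := by
    intro t ht htT htq htf
    have h1 : ¬ t ∣ Nat.gcd n (q + 1) := fun h => htq (h.trans (Nat.gcd_dvd_right _ _))
    constructor
    · rw [← card_psu hF hn] at htT
      exact ((Nat.Prime.dvd_mul ht).1 htT).resolve_right h1
    · rw [outN_psu hF hn h32 hp hf hq]
      intro h
      rcases (Nat.Prime.dvd_mul ht).1 h with h | h
      · exact h1 h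
      · exact htf h
  refine NF0.nf (conj_inj hF hn) (nf0_pair (p := l) hr hs (key r hr hrT hrq hrf).1 (key s hs hsT hsq hsf).1
    (key r hr hrT hrq hrf).2 (key s hs hsT hsq hsf).2 ?_ (hra.quot _ hZ) (hsb.quot _ hZ) ?_)
  · refine hsep.of_surjective (QuotientGroup.mk' (Subgroup.center (SU n F q))) (QuotientGroup.mk'_surjective _) ?_
    rw [QuotientGroup.ker_mk']
    exact hZ
  · rw [outN_psu hF hn h32 hp hf hq]
    exact hlt

theorem charP_of (hF : Fintype.card F = q ^ 2) {p f : ℕ} (hp : p.Prime) (hf : 1 ≤ f) (hq : q = p ^ f) : CharP F p := by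
  obtain ⟨k, hp', hk⟩ := FiniteField.card F (ringChar F)
  have h1 : p ∣ ringChar F ^ (k : ℕ) := by
    rw [← hk, hF, hq]
    exact (dvd_pow_self p (by omega)).trans (dvd_pow_self _ two_ne_zero)
  have h2 := (Nat.prime_dvd_prime_iff_eq hp hp').1 (hp.dvd_of_dvd_pow h1)
  rw [h2]
  infer_instance

/-- An irreducible prime. -/
theorem bd_full (hB : BdOfUnip) (hL : UnipLin) (hF : Fintype.card F = q ^ 2) {p f : ℕ} (hp : p.Prime)
    (hq : q = p ^ f) {r : ℕ} (hr : r.Prime) (hrp : r ≠ p) (hn : 1 ≤ n)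
    (he : orderOf ((Fintype.card F : ℕ) : ZMod r) = n) : Bd (SU n F q) r p (n.factorization p) := by
  have hcard : Fintype.card F = p ^ (2 * f) := by rw [hF, hq, ← pow_mul, mul_comm]
  have hrF : ¬ r ∣ Fintype.card F := by
    rw [hcard]
    exact fun h => hrp ((Nat.prime_dvd_prime_iff_eq hr hp).1 (hr.dvd_of_dvd_pow h))
  have h1 := hB (SU n F q) F (Fin n) (suHom n F q) (suHom_injective n F q) r p n 0 hr hp hrp hrF he
    (by rw [Fintype.card_fin]; omega) (fun x hx U hU hxU => by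
      have := hL (SU n F q) F n (suHom n F q) (suHom_injective n F q) r p n (2 * f) hr hp hrp hcard he (by omega)
        x hx U hU hxU
      rwa [Nat.sub_self, mul_zero] at this)
  rwa [zero_add] at h1

theorem fac_le_of_card_le {m p k c : ℕ} (hp : p.Prime) (hc : c < p) (hm : m ≤ c * p ^ k) (hm0 : m ≠ 0)  :
    m.factorization p ≤ k := by
  by_contra hcon
  have h1 : p ^ (k + 1) ≤ m := Nat.le_of_dvd (Nat.pos_of_ne_zero hm0)
    ((hp.pow_dvd_iff_le_factorization hm0).2 (by omega))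
  have h2 : c * p ^ k < p ^ (k + 1) := by
    rw [pow_succ, mul_comm]
    exact Nat.mul_lt_mul_of_pos_left hc (pow_pos hp.pos k)
  omega

/-- `1` for `p = 2` and `0` otherwise -/
def two1 (p : ℕ) : ℕ := if p = 2 then 1 else 0

theorem fac_le_two {m p k : ℕ} (hp : p.Prime) (hm : m ≤ 2 * p ^ k) (hm0 : m ≠ 0) :
    m.factorization p ≤ k + two1 p := by
  unfold two1
  split_ifs with h
  · subst h
    refine fac_le_of_card_le (c := 1) hp (by norm_num) ?_ hm0
    rw [one_mul, pow_succ, mul_comm]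
    exact hm
  · exact fac_le_of_card_le hp (by have := hp.two_le; omega) hm hm0

/-- A prime with a one dimensional fixed space. -/
theorem bd_aniso (hB : BdOfUnip) (hA : AnisoForm) (hF : Fintype.card F = q ^ 2) {p f : ℕ} (hp : p.Prime) (hf : 1 ≤ f)
    (hq : q = p ^ f) {r e : ℕ} (hr : r.Prime) (hrp : r ≠ p) (hne : n < 2 * e) (hn : n ≤ e + 1)
    (he : orderOf ((Fintype.card F : ℕ) : ZMod r) = e) : Bd (SU n F q) r p (two1 p + e.factorization p) := by
  have hcard : Fintype.card F = p ^ (2 * f) := by rw [hF, hq, ← pow_mul, mul_comm]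
  have hch := charP_of hF hp hf hq
  have hrF : ¬ r ∣ Fintype.card F := by
    rw [hcard]
    exact fun h => hrp ((Nat.prime_dvd_prime_iff_eq hr hp).1 (hr.dvd_of_dvd_pow h))
  refine hB (SU n F q) F (Fin n) (suHom n F q) (suHom_injective n F q) r p e _ hr hp hrp hrF he
    (by rwa [Fintype.card_fin]) (fun x hx U hU hxU => ?_)
  have h1 := hA (SU n F q) F (Fin n) (suHom n F q) (suHom_injective n F q) (herPol hF) (fun g u v => herm_mt g u v)
    (fun g u => herm_mt g u u) r p e hr hp hrp hch he (by rwa [Fintype.card_fin]) x hx (fun v hv hvv => by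
      have hd := finrank_fx hr hrF he hne hx
      exact aniso_fx hF hr hrF hx (by omega) (mem_fx.2 hv) hvv) U hU hxU
  have h2 := fac_le_two (k := 0) hp (by rw [pow_zero, mul_one]; exact h1) Nat.card_pos.ne'
  omega

/-- A prime with a fixed space of dimension at most three. -/
theorem bd_witt (hB : BdOfUnip) (hW : WittOneForm) (hF : Fintype.card F = q ^ 2) {p f : ℕ} (hp : p.Prime) (hf : 1 ≤ f)
    (hq : q = p ^ f) {r e : ℕ} (hr : r.Prime) (hrp : r ≠ p) (hne : n < 2 * e) (hn : n ≤ e + 3)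
    (he : orderOf ((Fintype.card F : ℕ) : ZMod r) = e) :
    Bd (SU n F q) r p (2 * f * (n - 1) + two1 p + e.factorization p) := by
  have hcard : Fintype.card F = p ^ (2 * f) := by rw [hF, hq, ← pow_mul, mul_comm]
  have hch := charP_of hF hp hf hq
  have hrF : ¬ r ∣ Fintype.card F := by
    rw [hcard]
    exact fun h => hrp ((Nat.prime_dvd_prime_iff_eq hr hp).1 (hr.dvd_of_dvd_pow h))
  refine hB (SU n F q) F (Fin n) (suHom n F q) (suHom_injective n F q) r p e _ hr hp hrp hrF he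
    (by rwa [Fintype.card_fin]) (fun x hx U hU hxU => ?_)
  have h1 := hW (SU n F q) F (Fin n) (suHom n F q) (suHom_injective n F q) (herPol hF) (fun g u v => herm_mt g u v)
    (fun g u => herm_mt g u u) r p e hr hp hrp hch he (by rwa [Fintype.card_fin]) x hx (fun u v hu hv huu hvv huv => by
      have hd := finrank_fx hr hrF he hne hx
      exact witt_fx hF hr hrF hx (by omega) (mem_fx.2 hu) (mem_fx.2 hv) huu hvv huv) U hU hxU
  rw [hcard, ← pow_mul, Fintype.card_fin] at h1
  exact fac_le_two hp h1 Nat.card_pos.ne'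

/-- Separation of two primes. -/
theorem sep_su {r s e g : ℕ} (hr : r.Prime) (hs : s.Prime)
    (hrF : ¬ r ∣ Fintype.card F) (hsF : ¬ s ∣ Fintype.card F)
    (he : orderOf ((Fintype.card F : ℕ) : ZMod r) = e) (hg : orderOf ((Fintype.card F : ℕ) : ZMod s) = g)
    (h2e : n < 2 * e) (heg : n < e + g) (hge : ¬ g ∣ e) (hse : ¬ s ∣ e) (hrg : ¬ r ∣ g) (hrd : n < r * g) :
    Sep (SU n F q) r s :=
  H518.DghpSep.sep_linear (matRep (suHom n F q)) (matRep_injective (suHom_injective _ _ _)) hr hs hrF hsF he hg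
    finrank_fin h2e heg hge hse hrg hrd

end Cfsg.Agent.H272.NFU
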