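import Cfsg.Agent.H272.NFUEv
import Cfsg.Agent.H272.NFUGrp
import Cfsg.Agent.H176.NFAbs

/-!
# S5773, the rows `PSU n q`, `n = 4, 6`: primes `s` with `-q` of order `n` modulo `s` (helper272)
-/

set_option autoImplicit false
set_option linter.unusedSectionVars false

namespace Cfsg.Agent.H272.NFU

open Module Cfsg Cfsg.Agent.LieClassical.HermBasic Cfsg.Agent.H518.Dghp Cfsg.Agent.H518.DghpMat
  Cfsg.Agent.H518.DghpFix Cfsg.Agent.H176.NF Cfsg.Agent.H403 Cfsg.Agent.H403.NumTop

variable {F : Type} [Field F] [Fintype F] {n q : ℕ} {E : Type} [Field E] [IsAlgClosed E] [Algebra F E]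

/-- all eigenvalues form one orbit -/
theorem evs_eq_orb (hF : Fintype.card F = q ^ 2) {s A : ℕ} (hs : s.Prime)
    (ho : orderOf ((xv false q : ℤ) : ZMod s) = n) {Y : SU n F q} {y : E} (hy : y ∈ evs E (mt Y))
    (h1 : (y ^ A) ^ s = 1) (h2 : y ^ A ≠ 1) : evs E (mt Y) = orb (xv false q) y ∧ per (xv false q) y = n := by
  have hcl := cl_mt (E := E) hF Y
  have h3 := dvd_per hs ho h1 h2
  have h4 := hcl.per_pos hy
  have h5 := Nat.le_of_dvd h4 h3
  have h6 := Multiset.card_le_card (hcl.orb_le hy)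
  rw [card_orb, card_evs_mt] at h6
  refine ⟨(Multiset.eq_of_le_of_card_le (hcl.orb_le hy) ?_).symm, by omega⟩
  rw [card_orb, card_evs_mt]
  exact h5

theorem one_notMem_orb {x : ℤ} (hx : Function.Injective fun y : E => y ^ x) {y : E} (hy : y ≠ 1) :
    (1 : E) ∉ orb x y := by
  intro h
  obtain ⟨j, hj⟩ := mem_orb h
  apply hy
  have h1 := (hx.iterate j)
  apply h1
  rw [iterate_zpow, iterate_zpow, ← hj, one_zpow]

/-- data for an element of order `s` -/
theorem exists_ev (hF : Fintype.card F = q ^ 2) {p s : ℕ} (hp : p.Prime) [CharP F p] (hs : s.Prime) (hsp : s ≠ p)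
    (ho : orderOf ((xv false q : ℤ) : ZMod s) = n) {x : SU n F q} (hx : orderOf x = s) :
    ∃ y : E, y ^ s = 1 ∧ y ≠ 1 ∧ evs E (mt x) = orb (xv false q) y ∧ per (xv false q) y = n := by
  have h1 : x ^ s = 1 := by rw [← hx, pow_orderOf_eq_one]
  obtain ⟨y, hy, hy1⟩ : ∃ y ∈ evs E (mt x), y ≠ 1 := by
    by_contra hcon
    push Not at hcon
    have h2 := eq_one_of_evs hp (fun h => hsp ((Nat.prime_dvd_prime_iff_eq hp hs).1 h).symm) h1 hcon
    rw [h2, orderOf_one] at hx
    exact hs.one_lt.ne hx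
  have h2 := pow_of_evs h1 hy
  have h3 := evs_eq_orb (A := 1) hF hs ho hy (by rw [pow_one]; exact h2) (by rwa [pow_one])
  exact ⟨y, h2, hy1, h3.1, h3.2⟩

theorem one_notMem (hF : Fintype.card F = q ^ 2) {p s : ℕ} (hp : p.Prime) [CharP F p] (hs : s.Prime) (hsp : s ≠ p)
    (ho : orderOf ((xv false q : ℤ) : ZMod s) = n) {x : SU n F q} (hx : orderOf x = s) :
    (1 : E) ∉ evs E (mt x) := by
  obtain ⟨y, -, hy1, h, -⟩ := exists_ev (E := E) hF hp hs hsp ho hx
  rw [h]
  exact one_notMem_orb (cl_mt (E := E) hF x).inj hy1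

theorem nodup_evs (hF : Fintype.card F = q ^ 2) {p s : ℕ} (hp : p.Prime) [CharP F p] (hs : s.Prime) (hsp : s ≠ p)
    (ho : orderOf ((xv false q : ℤ) : ZMod s) = n) {x : SU n F q} (hx : orderOf x = s) :
    (evs E (mt x)).Nodup := by
  obtain ⟨y, -, hy1, h, -⟩ := exists_ev (E := E) hF hp hs hsp ho hx
  rw [h]
  exact orb_nodup _ _

/-- the character of a group centralizing an element with a simple eigenvalue -/
theorem exists_char {z : SU n F q} (hnd : (evs E (mt z)).Nodup) {y : E} (hy : y ∈ evs E (mt z))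
    (R : Subgroup (SU n F q)) (hR : ∀ g ∈ R, g * z = z * g) :
    ∃ v : Fin n → E, v ≠ 0 ∧ (mE E z).mulVec v = y • v ∧ ∃ χ : R →* E, ∀ g : R, (mE E (g : SU n F q)).mulVec v = χ g • v := by
  obtain ⟨v, hv, hzv⟩ := exists_vec hy
  have h1 : ∀ g : R, ∃ c : E, (mE E (g : SU n F q)).mulVec v = c • v := by
    intro g
    refine eigen_unique hnd hv hzv ?_
    rw [Matrix.mulVec_mulVec, ← mE_mul, ← hR g g.2, mE_mul, ← Matrix.mulVec_mulVec, hzv, Matrix.mulVec_smul]
  choose c hc using h1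
  have hinj : ∀ a b : E, a • v = b • v → a = b := by
    intro a b hab
    obtain ⟨i, hi⟩ := Function.ne_iff.1 hv
    have := congrFun hab i
    rw [Pi.smul_apply, Pi.smul_apply, smul_eq_mul, smul_eq_mul] at this
    exact mul_right_cancel₀ hi this
  refine ⟨v, hv, hzv, { toFun := c, map_one' := ?_, map_mul' := ?_ }, hc⟩
  · apply hinj
    rw [← hc, one_smul, Subgroup.coe_one, mE_one, Matrix.one_mulVec]
  · intro g h
    apply hinj
    rw [← hc, Subgroup.coe_mul, mE_mul, ← Matrix.mulVec_mulVec, hc, Matrix.mulVec_smul, hc, smul_smul, mul_comm]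

/-- `s`-subgroups are cyclic -/
theorem cyc (hF : Fintype.card F = q ^ 2) {p s : ℕ} (hp : p.Prime) [CharP F p] (hs : s.Prime) (hsp : s ≠ p)
    (ho : orderOf ((xv false q : ℤ) : ZMod s) = n) (R : Subgroup (SU n F q)) (hR : IsPGroup s R) : IsCyclic R := by
  have := Fact.mk hs
  let E := AlgebraicClosure F
  rcases subsingleton_or_nontrivial R with h | h
  · exact isCyclic_of_subsingleton
  have hct := hR.center_nontrivial
  obtain ⟨z, hz⟩ : ∃ z : Subgroup.center R, orderOf z = s := by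
    have h1 : IsPGroup s (Subgroup.center R) := hR.to_subgroup _
    obtain ⟨k, hk⟩ := IsPGroup.iff_card.1 h1
    have hk0 : k ≠ 0 := by
      rintro rfl
      rw [pow_zero] at hk
      have := Nat.card_eq_one_iff_unique.1 hk
      exact not_subsingleton _ this.1
    exact exists_prime_orderOf_dvd_card' s (hk ▸ dvd_pow_self s hk0)
  have hz' : orderOf ((z : R) : SU n F q) = s := by rw [Subgroup.orderOf_coe, Subgroup.orderOf_coe, hz]
  obtain ⟨y, -, -, h1, -⟩ := exists_ev (E := E) hF hp hs hsp ho hz'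
  have hnd := nodup_evs (E := E) hF hp hs hsp ho hz'
  have hn : 0 < n := by
    rw [← ho]
    refine orderOf_pos_iff.2 ?_
    rw [isOfFinOrder_iff_pow_eq_one]
    have hne : ((xv false q : ℤ) : ZMod s) ≠ 0 := by
      unfold xv
      rw [if_neg (by decide), Int.cast_neg, Int.cast_natCast, neg_ne_zero]
      intro h0
      rw [ZMod.natCast_eq_zero_iff] at h0
      have h2 : s ∣ Fintype.card F := by rw [hF]; exact h0.trans (dvd_pow_self q two_ne_zero)
      obtain ⟨k, hp', hk⟩ := FiniteField.card F p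
      rw [hk] at h2
      exact hsp ((Nat.prime_dvd_prime_iff_eq hs hp).1 (hs.dvd_of_dvd_pow h2))
    exact ⟨s - 1, Nat.sub_pos_of_lt hs.one_lt, ZMod.pow_card_sub_one_eq_one hne⟩
  obtain ⟨w, hw⟩ : ∃ w, w ∈ evs E (mt ((z : R) : SU n F q)) :=
    Multiset.card_pos_iff_exists_mem.1 (by rw [card_evs_mt]; exact hn)
  obtain ⟨v, hv, hzv, χ, hχ⟩ := exists_char hnd hw R (fun g hg => by
    have := Subgroup.mem_center_iff.1 z.2 ⟨g, hg⟩
    exact congrArg Subtype.val this)
  refine isCyclic_of_injective_ringHom χ ?_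
  rw [injective_iff_map_eq_one]
  intro g hg
  by_contra hg1
  obtain ⟨k, hk⟩ := IsPGroup.iff_orderOf.1 hR g
  have hk0 : k ≠ 0 := by
    rintro rfl
    rw [pow_zero, orderOf_eq_one_iff] at hk
    exact hg1 hk
  have h2 : orderOf (((g ^ s ^ (k - 1) : R) : SU n F q)) = s := by
    rw [Subgroup.orderOf_coe, orderOf_pow' _ (pow_ne_zero _ hs.ne_zero), hk]
    have h3 : Nat.gcd (s ^ k) (s ^ (k - 1)) = s ^ (k - 1) := Nat.gcd_eq_right (pow_dvd_pow s (by omega))
    rw [h3]
    have h4 : s ^ k = s * s ^ (k - 1) := by rw [← pow_succ', Nat.sub_add_cancel (by omega)]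
    rw [h4, Nat.mul_div_cancel _ (pow_pos hs.pos _)]
  refine one_notMem (E := E) hF hp hs hsp ho h2 (mem_evs_of_vec hv ?_)
  rw [hχ, map_pow, hg, one_pow]

/-- the automizer of an element of order `s` -/
theorem normc (hF : Fintype.card F = q ^ 2) {p s : ℕ} (hp : p.Prime) [CharP F p] (hs : s.Prime) (hsp : s ≠ p)
    (ho : orderOf ((xv false q : ℤ) : ZMod s) = n) {x y : SU n F q} (hx : orderOf x = s) {k : ℕ}
    (hxy : y * x * y⁻¹ = x ^ k) : orderOf (k : ZMod s) ∣ n := by
  let E := AlgebraicClosure F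
  have := Fact.mk hs
  obtain ⟨c, hc, hc1, h1, h2⟩ := exists_ev (E := E) hF hp hs hsp ho hx
  have hcm : c ∈ evs E (mt x) := by
    rw [h1]
    unfold orb
    rw [h2]
    have hn : 0 < n := by
      rw [← h2]
      rw [← card_orb, ← h1, card_evs_mt]
      rcases Nat.eq_zero_or_pos n with h | h
      · exfalso
        subst h
        have h3 : x = 1 := by
          apply mt_inj
          ext i
          exact i.elim0
        rw [h3, orderOf_one] at hx
        exact hs.one_lt.ne hx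
      · exact h
    refine Multiset.mem_map.2 ⟨0, Multiset.mem_range.2 hn, ?_⟩
    simp
  obtain ⟨v, hv, hxv⟩ := exists_vec hcm
  have hpow : ∀ j : ℕ, (mE E (x ^ j)).mulVec v = c ^ j • v := by
    intro j
    induction j with
    | zero => rw [pow_zero, mE_one, Matrix.one_mulVec, pow_zero, one_smul]
    | succ j ih =>
      rw [pow_succ, mE_mul, ← Matrix.mulVec_mulVec, hxv, Matrix.mulVec_smul, ih, smul_smul, pow_succ, mul_comm]
  have hyv : (mE E y⁻¹).mulVec v ≠ 0 := by
    intro h0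
    apply hv
    have h3 : (mE E y).mulVec ((mE E y⁻¹).mulVec v) = v := by
      rw [Matrix.mulVec_mulVec, ← mE_mul, mul_inv_cancel, mE_one, Matrix.one_mulVec]
    rw [← h3, h0, Matrix.mulVec_zero]
  have h3 : (mE E x).mulVec ((mE E y⁻¹).mulVec v) = c ^ k • (mE E y⁻¹).mulVec v := by
    have h4 : x * y⁻¹ = y⁻¹ * x ^ k := by rw [← hxy]; group
    rw [Matrix.mulVec_mulVec, ← mE_mul, h4, mE_mul, ← Matrix.mulVec_mulVec, hpow, Matrix.mulVec_smul]
  have h4 := mem_evs_of_vec hyv h3
  rw [h1] at h4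
  obtain ⟨j, hj⟩ := mem_orb h4
  -- `c ^ k = c ^ (x ^ j)`
  have hc0 : c ≠ 0 := by
    intro h0
    rw [h0, zero_pow hs.ne_zero] at hc
    exact zero_ne_one hc
  have h5 : (s : ℤ) ∣ (k : ℤ) - xv false q ^ j := by
    have hoc : orderOf c = s := orderOf_eq_prime hc hc1
    rw [← hoc]
    have h6 : (Units.mk0 c hc0) ^ ((k : ℤ) - xv false q ^ j) = 1 := by
      apply Units.ext
      rw [zpow_sub, zpow_natCast]
      simp only [Units.val_mul, Units.val_pow_eq_pow_val, Units.val_mk0, Units.val_inv_eq_inv_val,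
        Units.val_zpow_eq_zpow_val, Units.val_one]
      rw [hj]
      exact mul_inv_cancel₀ (zpow_ne_zero _ hc0)
    have h7 := orderOf_dvd_iff_zpow_eq_one.2 h6
    rwa [← orderOf_units, Units.val_mk0] at h7
  have h6 := (ZMod.intCast_zmod_eq_zero_iff_dvd ((k : ℤ) - xv false q ^ j) s).2 h5
  push_cast at h6
  rw [sub_eq_zero] at h6
  rw [h6, ← ho]
  exact orderOf_pow_dvd j

end Cfsg.Agent.H272.NFU
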